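import Groth.Agent.BunMod.K311.Fam
import Groth.Agent.VarietyB.HHPush
import Groth.Agent.FormalB.PullCoh
import Groth.Agent.Dcoh.MonAdj
import Groth.Agent.Fga.HShift

/-!
# Admissible families and universal bases

`KFit k S r a b`, `F` a family of semistable bundles of rank `r` and degree `0` over `T`:
* `vanFam₁`, `vanFam₂`: `VanFam` for `(L₁)_T`, `F` and for `(L₂)_T`, `F`;
* `ke_orb`.
-/

set_option autoImplicit false
universe u

open CategoryTheory CategoryTheory.Limits AlgebraicGeometry MonoidalCategory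

namespace K311.KVan

open scoped Groth.Agent.Dcoh.MonCat
open Groth.Agent Groth.Agent.LoccohB.SectLin303 K140.BM K311.KE K311.Bas K311.Fam K311.Van K311.PushFree

attribute [local instance] Groth.Agent.Dcoh.MonPull.monPull

/-- The inverse of an invertible object is its dual. -/
theorem nonempty_dual_iso {C : Type*} [Category* C] [MonoidalCategory C] [BraidedCategory C] {L L' N : C}
    [ExactPairing L L'] (e : L ⊗ N ≅ 𝟙_ C) : Nonempty (L' ≅ N) := by
  let η : 𝟭 C ≅ tensorRight L ⋙ tensorRight N :=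
    (rightUnitorNatIso C).symm ≪≫ (Dcoh.MonAdj.tensorRightIso e).symm ≪≫ tensorRightTensor L N
  let ε : tensorRight N ⋙ tensorRight L ≅ 𝟭 C :=
    (tensorRightTensor N L).symm ≪≫ Dcoh.MonAdj.tensorRightIso (β_ N L ≪≫ e) ≪≫ rightUnitorNatIso C
  let E : C ≌ C := CategoryTheory.Equivalence.mk (tensorRight L) (tensorRight N) η ε
  obtain ⟨i⟩ := Dcoh.MonAdj.nonempty_dual_unit L' (FK := tensorRight L) (RK := tensorRight N) ⟨Iso.refl _⟩
    E.toAdjunction
  exact ⟨i ≪≫ λ_ N⟩

/-- pushforward of the pullback along an isomorphism -/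
theorem nonempty_push_pull {X Y : Scheme.{u}} (e : X ⟶ Y) [IsIso e] (M : Y.Modules) :
    Nonempty ((Coh.push e).obj ((Scheme.Modules.pullback e).obj M) ≅ M) := by
  have h : IsIso ((Scheme.Modules.restrictAdjunction e).unit.app M) := by
    rw [Scheme.Modules.Hom.isIso_iff_isIso_app]
    intro U
    rw [Scheme.Modules.restrictAdjunction_unit_app_app]
    have h1 : e ''ᵁ (e ⁻¹ᵁ U) = U := by
      rw [Scheme.Hom.image_preimage_eq_opensRange_inf, Scheme.Hom.opensRange_of_isIso, top_inf_eq]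
    have h2 : IsIso (homOfLE (e.image_preimage_le U)) :=
      ⟨homOfLE h1.ge, Subsingleton.elim _ _, Subsingleton.elim _ _⟩
    exact inferInstanceAs (IsIso (M.presheaf.map (homOfLE (e.image_preimage_le U)).op))
  exact ⟨(Scheme.Modules.pushforward e).mapIso ((Scheme.Modules.restrictFunctorIsoPullback e).symm.app M) ≪≫
    (asIso ((Scheme.Modules.restrictAdjunction e).unit.app M)).symm⟩

/-- Vanishing of cohomology is invariant under isomorphisms of schemes. -/
theorem subsingleton_HH_pullback {X Y : Scheme.{u}} (e : X ⟶ Y) [IsIso e] (M : Y.Modules)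
    (hM : Coh.IsQCoh M) (p : ℕ) (h : Subsingleton (Coh.HH Y M p)) :
    Subsingleton (Coh.HH X ((Scheme.Modules.pullback e).obj M) p) := by
  let _ : Y.Over (Spec (CommRingCat.of (ULift.{u} ℤ))) := ⟨specULiftZIsTerminal.from Y⟩
  let _ : X.Over (Spec (CommRingCat.of (ULift.{u} ℤ))) := ⟨specULiftZIsTerminal.from X⟩
  have hf : e ≫ (Y ↘ Spec (CommRingCat.of (ULift.{u} ℤ))) = X ↘ Spec (CommRingCat.of (ULift.{u} ℤ)) :=
    specULiftZIsTerminal.hom_ext _ _
  obtain ⟨E⟩ := VarietyB.HHPush.exists_linearEquiv e (ULift.{u} ℤ) hf ((Scheme.Modules.pullback e).obj M)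
    (FormalB.PullCoh.isQuasicoherent_pullback e M hM) p
  obtain ⟨E'⟩ := nonempty_push_pull e M
  have := subsingleton_HH_of_iso E'.symm h
  exact E.symm.toEquiv.subsingleton

variable {k : Type u} [Field k] {X : Scheme.{u}} [X.Over (Spec (CommRingCat.of k))]

theorem flf_of_inv {Y : Scheme.{u}} {L : Y.Modules} (hL : PicF.IsInvertible L) : FlatMod.IsFinLocFree L := by
  intro x
  obtain ⟨U, hx, ⟨e⟩⟩ := hL x
  exact ⟨U, 1, hx, ⟨e ≪≫ (coproductUniqueIso (fun _ : Fin 1 => Coh.structureModule (U : Scheme.{u}))).symm⟩⟩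

theorem flf_congr {Y : Scheme.{u}} {M N : Y.Modules} (e : M ≅ N) (h : FlatMod.IsFinLocFree M) :
    FlatMod.IsFinLocFree N := by
  intro x
  obtain ⟨U, n, hx, ⟨i⟩⟩ := h x
  exact ⟨U, n, hx, ⟨(Scheme.Modules.restrictFunctor U.ι).mapIso e.symm ≪≫ i⟩⟩

theorem flf_cst (T : Over (B0 k)) {L : X.Modules} (hL : FlatMod.IsFinLocFree L) : FlatMod.IsFinLocFree (cst k T L) :=
  PerfB.FlatPull.isFinLocFree_pullback _ hL

/-- `H¹` of the geometric fibres. -/
theorem geomH1_of {T : Over (B0 k)} {F : (PicF.XT (st k X) T).Modules} {N : X.Modules}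
    (hF : FlatMod.IsFinLocFree F) (hN : FlatMod.IsFinLocFree N)
    (h : ∀ (Ω : Type u) [Field Ω] [IsAlgClosed Ω] (s : Spec (CommRingCat.of Ω) ⟶ B0 k) (g : tpt s ⟶ T),
      Subsingleton (Coh.HH _ (CohB1.tensorMod (pl k X g F) (cst k (tpt s) N)) 1)) :
    GeomH1 (PicF.XTproj (st k X) T) (CohB1.tensorMod F (cst k T N)) := by
  intro Ω _ _ t Y' f q H
  let s : Spec (CommRingCat.of Ω) ⟶ B0 k := t ≫ T.hom
  let g : tpt s ⟶ T := Over.homMk t rfl
  have H' : IsPullback (PicF.XTmap (st k X) g) (PicF.XTproj (st k X) (tpt s)) (PicF.XTproj (st k X) T) t :=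
    isPullback_XTmap g
  let ε : Y' ≅ PicF.XT (st k X) (tpt s) := H.isoIsPullback _ _ H'
  have h1 : ε.hom ≫ PicF.XTmap (st k X) g = f := H.isoIsPullback_hom_fst _ _ H'
  let P := Scheme.Modules.pullback (PicF.XTmap (st k X) g)
  let i1 : P.obj (CohB1.tensorMod F (cst k T N)) ≅ CohB1.tensorMod (pl k X g F) (cst k (tpt s) N) :=
    (Functor.Monoidal.μIso P F (cst k T N)).symm ≪≫ whiskerLeftIso (P.obj F) (cstI g N).symm
  have h2 := subsingleton_HH_of_iso i1.symm (h Ω s g)
  have h3 := subsingleton_HH_pullback ε.hom _ (FormalB.PullCoh.isQuasicoherent_pullback _ _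
    (isQCoh_of_fp (isFP_tensor hF (flf_cst T hN)))) 1 h2
  exact subsingleton_HH_of_iso ((Scheme.Modules.pullbackComp ε.hom (PicF.XTmap (st k X) g)).app _ ≪≫
    (Scheme.Modules.pullbackCongr h1).app _) h3

theorem vanFam_of {T : Over (B0 k)} {F : (PicF.XT (st k X) T).Modules} {L N : X.Modules}
    (hF : FlatMod.IsFinLocFree F) (hL : PicF.IsInvertible L)
    (e : Nonempty (CohB1.tensorMod L N ≅ Coh.structureModule X))
    (h : ∀ (Ω : Type u) [Field Ω] [IsAlgClosed Ω] (s : Spec (CommRingCat.of Ω) ⟶ B0 k) (g : tpt s ⟶ T),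
      Subsingleton (Coh.HH _ (CohB1.tensorMod (pl k X g F) (cst k (tpt s) N)) 1)) :
    VanFam (PicF.XTproj (st k X) T) (cst k T L) F where
  flfA := flf_cst T (flf_of_inv hL)
  flfF := hF
  van := by
    obtain ⟨e⟩ := e
    obtain ⟨L', ⟨i⟩⟩ := Groth.Agent.Dcoh.DualFLF.exists_exactPairing (flf_of_inv hL)
    obtain ⟨j⟩ := nonempty_dual_iso (L := L) (L' := L') (N := N) e
    have hN : FlatMod.IsFinLocFree N :=
      flf_congr j (Groth.Agent.Dcoh.DualFLF.isFinLocFree_dual (flf_of_inv hL) L')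
    let P := Scheme.Modules.pullback (pullback.fst (st k X) T.hom)
    exact ⟨P.obj L', Groth.Agent.Dcoh.MonDual.mapExactPairing P L L',
      (geomH1_of hF hN h).of_iso (whiskerLeftIso F (P.mapIso j.symm))⟩

section Fit

variable {S : KSet X} {r a b : ℕ} (hS : KFit k S r a b)

include hS in
theorem vanFam₁ {T : Over (B0 k)} {F : (PicF.XT (st k X) T).Modules} (hF : BunMod.ussOK (st k X) r 0 T F) :
    VanFam (PicF.XTproj (st k X) T) (cst k T S.L₁) F :=
  vanFam_of (flf_of_rank hF.1) S.invertible₁ S.inv₁ fun Ω _ _ s g => hS.van₁ Ω s _ ((ussOK_iff.1 hF).2 Ω s g)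

include hS in
theorem vanFam₂ {T : Over (B0 k)} {F : (PicF.XT (st k X) T).Modules} (hF : BunMod.ussOK (st k X) r 0 T F) :
    VanFam (PicF.XTproj (st k X) T) (cst k T S.L₂) F :=
  vanFam_of (flf_of_rank hF.1) S.invertible₂ S.inv₂ fun Ω _ _ s g => hS.van₂ Ω s _ ((ussOK_iff.1 hF).2 Ω s g)

end Fit

section Proper

variable [IsProper (X ↘ Spec (CommRingCat.of k))] [Smooth (X ↘ Spec (CommRingCat.of k))]

instance isProper_XTproj (T : Over (B0 k)) : IsProper (PicF.XTproj (st k X) T) :=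
  inferInstanceAs (IsProper (pullback.snd (st k X) T.hom))

instance smooth_XTproj (T : Over (B0 k)) : Smooth (PicF.XTproj (st k X) T) :=
  inferInstanceAs (Smooth (pullback.snd (st k X) T.hom))

variable {S : KSet X} {r a b : ℕ} (hS : KFit k S r a b)
  {T : Over (B0 k)} {α α' : Kr a b S.h Γ(T.left, ⊤)}

include hS in
/-- The tautological tuples of a good Kronecker module are universal bases. -/
theorem kgood_sbOn (h : KGood S.toKDat r T α) :
    SBOn (PicF.XTproj (st k X) T) Set.univ (KE.v S.toKDat T α) ∧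
      SBOn (PicF.XTproj (st k X) T) Set.univ (KE.w S.toKDat T α) := by
  rw [kgood_iff] at h
  constructor
  · refine (vanFam₁ hS h.1).sbOn_univ fun Ω _ _ t => ?_
    exact ⟨_, _, _, isPullback_XTmap (Over.homMk t rfl : Over.mk (t ≫ T.hom) ⟶ T), (h.2 Ω (t ≫ T.hom) _).1⟩
  · refine (vanFam₂ hS h.1).sbOn_univ fun Ω _ _ t => ?_
    exact ⟨_, _, _, isPullback_XTmap (Over.homMk t rfl : Over.mk (t ≫ T.hom) ⟶ T), (h.2 Ω (t ≫ T.hom) _).2⟩

include hS in
/-- **Isomorphic families differ by frames**, strong form: every isomorphism comes from the frames. -/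
theorem exists_orb (h : KGood S.toKDat r T α) (h' : KGood S.toKDat r T α')
    (ε : KE S.toKDat T α ≅ KE S.toKDat T α') :
    ∃ (u : GL (Fin b) Γ(T.left, ⊤)) (v : GL (Fin a) Γ(T.left, ⊤)), α' = kact u.1 v.1 α ∧
      (∀ l, KE.v S.toKDat T α' l ≫ ε.inv = ∑ l', fT k X T (v.1 l' l) • KE.v S.toKDat T α l') ∧
      ∀ j, KE.w S.toKDat T α' j ≫ ε.inv = ∑ j', fT k X T ((u⁻¹).1 j' j) • KE.w S.toKDat T α j' :=
  orb_of_sb (kgood_sbOn hS h).1.self (kgood_sbOn hS h).2.self (kgood_sbOn hS h').1.self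
    (kgood_sbOn hS h').2.self ε

include hS in
/-- **Isomorphic families differ by frames.** -/
theorem ke_orb (h : KGood S.toKDat r T α) (h' : KGood S.toKDat r T α')
    (he : Nonempty (KE S.toKDat T α ≅ KE S.toKDat T α')) :
    ∃ (u : GL (Fin b) Γ(T.left, ⊤)) (v : GL (Fin a) Γ(T.left, ⊤)), α' = kact u.1 v.1 α := by
  obtain ⟨ε⟩ := he
  obtain ⟨u, v, h1, -⟩ := exists_orb hS h h' ε
  exact ⟨u, v, h1⟩

end Proper

end K311.KVan
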