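import Groth.Agent.BunMod.K311.LocAlg
import Groth.Agent.PerfB.StalkKFlat
import Groth.Agent.PerfA.Restrict
import Groth.Agent.Dcoh.PerfFlat
import Groth.Agent.Fdesc.FinStalk
import Groth.Agent.Dcoh.FTFP
import Groth.Agent.Models2.FPCoh

/-!
# Isomorphisms tested on fibres

`isIso_of_fibres`: a homomorphism `E ⟶ F`, `E` finitely presented, `F` finite locally free, which becomes an
isomorphism after pull-back to schemes covering `Y` (pointwise) is an isomorphism.
-/

set_option autoImplicit false
universe u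

open CategoryTheory CategoryTheory.Limits AlgebraicGeometry

namespace K311.FibIso

open Groth.Agent Groth.Agent.Fdesc.PullbackStalk Groth.Agent.Fdesc.Skyscraper

variable {Y Z : Scheme.{u}}

theorem bijective_stalk (g : Z ⟶ Y) {E F : Y.Modules} (φ : E ⟶ F) (z : Z)
    (hE : Module.Finite (Y.presheaf.stalk (g z)) (E.presheaf.stalk (g z))) (hF : FlatMod.IsFinLocFree F)
    (h : IsIso ((Scheme.Modules.pullback g).map φ)) : Function.Bijective (stalkMap φ (g z)) := by
  let := stalkAlg g z
  obtain ⟨n, ⟨b⟩⟩ := Dcoh.PerfFlat.exists_basis_stalk hF (g z)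
  have : Module.Free (Y.presheaf.stalk (g z)) (F.presheaf.stalk (g z)) := Module.Free.of_basis b
  have : Module.Finite (Y.presheaf.stalk (g z)) (F.presheaf.stalk (g z)) := Module.Finite.of_basis b
  have : IsLocalHom (algebraMap (Y.presheaf.stalk (g z)) (Z.presheaf.stalk z)) :=
    inferInstanceAs (IsLocalHom (g.stalkMap z).hom)
  refine LocAlg.bijective_of_baseChange (B := Z.presheaf.stalk z) (stalkMap φ (g z)) ?_
  have h1 : Function.Bijective (stalkMap ((Scheme.Modules.pullback g).map φ) z) := by
    have h2 := (PerfA.Restrict.isIso_iff_stalk _).1 h z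
    have h3 := (ConcreteCategory.isIso_iff_bijective _).1 h2
    have h4 : ⇑(stalkMap ((Scheme.Modules.pullback g).map φ) z) =
        (PerfA.Restrict.stalkAb z).map ((Scheme.Modules.pullback g).map φ) := by
      funext t
      exact stalkMap_eq _ z t
    rw [h4]
    exact h3
  have h5 : (stalkPullbackEquiv g F z) ∘ ((stalkMap φ (g z)).baseChange (Z.presheaf.stalk z)) =
      stalkMap ((Scheme.Modules.pullback g).map φ) z ∘ stalkPullbackEquiv g E z :=
    funext fun t => PerfB.StalkKFlat.stalkPullbackEquiv_naturality g φ z t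
  have h6 := h1.comp (stalkPullbackEquiv g E z).bijective
  rw [← h5] at h6
  exact (Function.Bijective.of_comp_iff' (stalkPullbackEquiv g F z).bijective _).1 h6

/-- **Isomorphisms may be tested on fibres.** -/
theorem isIso_of_fibres {E F : Y.Modules} (φ : E ⟶ F) (hE : CohB1.IsFP E) (hF : FlatMod.IsFinLocFree F)
    (h : ∀ y : Y, ∃ (Z : Scheme.{u}) (g : Z ⟶ Y) (z : Z), g z = y ∧ IsIso ((Scheme.Modules.pullback g).map φ)) :
    IsIso φ := by
  rw [PerfA.Restrict.isIso_iff_stalk]
  intro y
  obtain ⟨Z, g, z, rfl, hi⟩ := h y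
  refine (ConcreteCategory.isIso_iff_bijective _).2 ?_
  have h1 := bijective_stalk g φ z (Fdesc.FinStalk.finite_stalk_of_isCoh E (Models2.FPCoh.isCoh_of_isFP hE) _) hF hi
  have h4 : ⇑(stalkMap φ (g z)) = (PerfA.Restrict.stalkAb (g z)).map φ := by
    funext t
    exact stalkMap_eq _ _ t
  rw [h4] at h1
  exact h1

section FLF

/-- The property of being finite locally free. -/
def flf (X : Scheme.{u}) : ObjectProperty X.Modules := fun M => FlatMod.IsFinLocFree M

variable {X : Scheme.{u}}

instance : (flf X).IsClosedUnderIsomorphisms where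
  of_iso e h := Dcoh.FinLocFree.isFinLocFree_of_iso e h

instance : (flf X).ContainsZero where
  exists_zero := ⟨_, isZero_zero _, Dcoh.FinLocFree.isFinLocFree_of_isZero (isZero_zero _)⟩

instance : (flf X).IsClosedUnderBinaryCoproducts where
  colimitsOfShape_le := by
    rintro M ⟨p⟩
    have h1 : flf X (p.diag.obj ⟨WalkingPair.left⟩) := p.prop_diag_obj _
    have h2 : flf X (p.diag.obj ⟨WalkingPair.right⟩) := p.prop_diag_obj _
    have e : M ≅ (p.diag.obj ⟨WalkingPair.left⟩) ⊞ (p.diag.obj ⟨WalkingPair.right⟩) :=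
      p.isColimit.coconePointsIsoOfNatIso (BinaryBiproduct.isColimit _ _) (diagramIsoPair p.diag)
    exact (flf X).prop_of_iso e.symm (Dcoh.FinLocFree.isFinLocFree_biprod h1 h2)

instance : (flf X).IsClosedUnderFiniteCoproducts := .mk'

theorem isFinLocFree_biproduct {J : Type} [Finite J] (M : J → X.Modules) [HasBiproduct M]
    (h : ∀ j, FlatMod.IsFinLocFree (M j)) : FlatMod.IsFinLocFree (⨁ M) :=
  Dcoh.FinLocFree.isFinLocFree_of_iso (biproduct.isoCoproduct M).symm ((flf X).prop_coproduct h)

end FLF

end K311.FibIso
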