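import Groth.Agent.BunMod.K311.KVan
import Groth.Agent.BunMod.K311.FibIso

/-!
# Every admissible family comes locally from a good Kronecker module
-/

set_option autoImplicit false
universe u

open CategoryTheory CategoryTheory.Limits AlgebraicGeometry

namespace K311.Lift

open Groth.Agent Groth.Agent.LoccohB.HHmap Groth.Agent.LoccohB.SectLin303 K140.BM K311.KE K311.Bas K311.Fam K311.Van
  K311.KVan

/-- Change of the modules by isomorphisms. -/
theorem sbOn_iso {Y S : Scheme.{u}} {p : Y ⟶ S} {U : Set S} {n : ℕ} {A F A' F' : Y.Modules} (i : A' ≅ A)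
    (j : F ≅ F') {e : Fin n → (A ⟶ F)} (h : SBOn p U e) : SBOn p U (fun l => i.hom ≫ e l ≫ j.hom) := by
  intro Y' S' f q g H hU
  have h1 := h f q g H hU
  let P := Scheme.Modules.pullback f
  rw [SB.iso_iff q (P.mapIso i) (P.mapIso j)] at h1
  have h2 : (fun l => P.map (i.hom ≫ e l ≫ j.hom)) =
      fun l => (P.mapIso i).hom ≫ P.map (e l) ≫ (P.mapIso j).hom := by
    funext l
    rw [P.map_comp, P.map_comp]
    rfl
  exact h2 ▸ h1

variable {k : Type u} [Field k] {X : Scheme.{u}} [X.Over (Spec (CommRingCat.of k))]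

/-- Every point of `X_T` lies on a geometric fibre. -/
theorem exists_geom {T : Over (B0 k)} (y : PicF.XT (st k X) T) :
    ∃ (Ω : Type u) (_ : Field Ω) (_ : IsAlgClosed Ω) (s : Spec (CommRingCat.of Ω) ⟶ B0 k) (h : tpt s ⟶ T)
      (z : PicF.XT (st k X) (tpt s)), PicF.XTmap (st k X) h z = y := by
  let W := PicF.XT (st k X) T
  let Ω := AlgebraicClosure (W.residueField y)
  let c : Spec (CommRingCat.of Ω) ⟶ W :=
    Spec.map (CommRingCat.ofHom (algebraMap (W.residueField y) Ω)) ≫ W.fromSpecResidueField y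
  let t : Spec (CommRingCat.of Ω) ⟶ T.left := c ≫ PicF.XTproj (st k X) T
  let h : tpt (t ≫ T.hom) ⟶ T := Over.homMk t rfl
  have H : IsPullback (PicF.XTmap (st k X) h) (PicF.XTproj (st k X) (tpt (t ≫ T.hom))) (PicF.XTproj (st k X) T) t :=
    isPullback_XTmap h
  let l : Spec (CommRingCat.of Ω) ⟶ PicF.XT (st k X) (tpt (t ≫ T.hom)) := H.lift c (𝟙 _) (by rw [Category.id_comp])
  refine ⟨Ω, inferInstance, inferInstance, t ≫ T.hom, h, l (default : PrimeSpectrum Ω), ?_⟩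
  have h1 : l ≫ PicF.XTmap (st k X) h = c := H.lift_fst _ _ _
  rw [← Scheme.Hom.comp_apply, h1]
  exact W.fromSpecResidueField_apply y _

theorem isFP_KE (S : KSet X) {a b : ℕ} (T : Over (B0 k)) (α : Kr a b S.h Γ(T.left, ⊤)) :
    CohB1.IsFP (KE S.toKDat T α) := by
  have h1 := flf_cst T (flf_of_inv S.invertible₁)
  have h2 := flf_cst T (flf_of_inv S.invertible₂)
  exact Dcoh.FTFP.isFP_of_cokernel_finLocFree (FibIso.isFinLocFree_biproduct _ fun _ => h2)
    (Dcoh.FinLocFree.isFinLocFree_biprod (FibIso.isFinLocFree_biproduct _ fun _ => h1)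
      (FibIso.isFinLocFree_biproduct _ fun _ => h2)) (KE.rel S.toKDat T α) (cokernel.π (KE.rel S.toKDat T α))
    (cokernel.condition _) (cokernelIsCokernel _)

variable {S : KSet X} {r a b : ℕ} (hS : KFit k S r a b) {T : Over (B0 k)}

include hS in
/-- A homomorphism from `E_α` to a semistable family given by universal bases is an isomorphism. -/
theorem isIso_of_bases {F : (PicF.XT (st k X) T).Modules} (hF : BunMod.ussOK (st k X) r 0 T F)
    {α : Kr a b S.h Γ(T.left, ⊤)} (φ : KE S.toKDat T α ⟶ F)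
    (hv : SBOn (PicF.XTproj (st k X) T) Set.univ (fun l => KE.v S.toKDat T α l ≫ φ))
    (hw : SBOn (PicF.XTproj (st k X) T) Set.univ (fun j => KE.w S.toKDat T α j ≫ φ)) : IsIso φ := by
  refine FibIso.isIso_of_fibres φ (isFP_KE S T α) (flf_of_rank hF.1) fun y => ?_
  obtain ⟨Ω, _, _, s, h, z, hz⟩ := exists_geom y
  refine ⟨_, _, z, hz, ?_⟩
  let P := Scheme.Modules.pullback (PicF.XTmap (st k X) h)
  obtain ⟨e, he1, he2⟩ := exists_bc S.toKDat α h
  let ψ : KE S.toKDat (tpt s) (kmap h.left.appTop.hom α) ⟶ pl k X h F := e.hom ≫ P.map φ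
  have h1 : ∀ l, KE.v S.toKDat (tpt s) (kmap h.left.appTop.hom α) l ≫ ψ =
      (cstI h S.L₁).hom ≫ P.map (KE.v S.toKDat T α l ≫ φ) ≫ (Iso.refl (pl k X h F)).hom := fun l => by
    change KE.v S.toKDat (tpt s) (kmap h.left.appTop.hom α) l ≫ e.hom ≫ P.map φ = _
    rw [← Category.assoc, he1, Category.assoc, ← P.map_comp]
    exact congrArg (_ ≫ ·) (Category.comp_id _).symm
  have h2 : ∀ l, KE.w S.toKDat (tpt s) (kmap h.left.appTop.hom α) l ≫ ψ =
      (cstI h S.L₂).hom ≫ P.map (KE.w S.toKDat T α l ≫ φ) ≫ (Iso.refl (pl k X h F)).hom := fun l => by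
    change KE.w S.toKDat (tpt s) (kmap h.left.appTop.hom α) l ≫ e.hom ≫ P.map φ = _
    rw [← Category.assoc, he2, Category.assoc, ← P.map_comp]
    exact congrArg (_ ≫ ·) (Category.comp_id _).symm
  have h3 := hv _ _ _ (isPullback_XTmap h) fun _ => trivial
  have h4 := hw _ _ _ (isPullback_XTmap h) fun _ => trivial
  rw [SB.iso_iff _ (cstI h S.L₁) (Iso.refl (pl k X h F))] at h3
  rw [SB.iso_iff _ (cstI h S.L₂) (Iso.refl (pl k X h F))] at h4
  have h3' : (fun l => (cstI h S.L₁).hom ≫ P.map (KE.v S.toKDat T α l ≫ φ) ≫ (Iso.refl (pl k X h F)).hom) =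
      fun l => KE.v S.toKDat (tpt s) (kmap h.left.appTop.hom α) l ≫ ψ := funext fun l => (h1 l).symm
  have h4' : (fun l => (cstI h S.L₂).hom ≫ P.map (KE.w S.toKDat T α l ≫ φ) ≫ (Iso.refl (pl k X h F)).hom) =
      fun l => KE.w S.toKDat (tpt s) (kmap h.left.appTop.hom α) l ≫ ψ := funext fun l => (h2 l).symm
  rw [h3'] at h3
  rw [h4'] at h4
  have hr : ∀ (l : Fin a) (i : Fin S.h), cm (tpt s) (S.s i) ≫
      (KE.v S.toKDat (tpt s) (kmap h.left.appTop.hom α) l ≫ ψ) =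
      ∑ j, fT k X (tpt s) (kmap h.left.appTop.hom α i j l) •
        (KE.w S.toKDat (tpt s) (kmap h.left.appTop.hom α) j ≫ ψ) := fun l i => by
    rw [← Category.assoc, rel_eq, Preadditive.sum_comp]
    refine Finset.sum_congr rfl fun j _ => ?_
    rw [Linear.smul_comp]
  have h5 := hS.pres Ω s (pl k X h F) ((ussOK_iff.1 hF).2 Ω s h) _ _ ((homBasis_iff _ _).2 h3)
    ((homBasis_iff _ _).2 h4) (kmap h.left.appTop.hom α) hr
  have h6 : KE.desc S.toKDat (tpt s) (kmap h.left.appTop.hom α) _ _ hr = ψ := by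
    refine hom_ext S.toKDat (fun l => ?_) (fun j => ?_)
    · exact v_desc S.toKDat (tpt s) _ _ _ hr l
    · exact w_desc S.toKDat (tpt s) _ _ _ hr j
  have h7 : IsIso ψ := by
    rw [← h6]
    exact h5
  exact IsIso.of_isIso_comp_left e.hom (P.map φ)

include hS in
/-- A family with universal bases comes from a good Kronecker module. -/
theorem exists_kgood {F : (PicF.XT (st k X) T).Modules} (hF : BunMod.ussOK (st k X) r 0 T F)
    {v : Fin a → (cst k T S.L₁ ⟶ F)} {w : Fin b → (cst k T S.L₂ ⟶ F)}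
    (hv : SBOn (PicF.XTproj (st k X) T) Set.univ v) (hw : SBOn (PicF.XTproj (st k X) T) Set.univ w) :
    ∃ (α : Kr a b S.h Γ(T.left, ⊤)) (φ : KE S.toKDat T α ≅ F), KGood S.toKDat r T α ∧
      (∀ l, KE.v S.toKDat T α l ≫ φ.hom = v l) ∧ ∀ j, KE.w S.toKDat T α j ≫ φ.hom = w j := by
  have hw' := hw.self
  choose c hc using fun (i : Fin S.h) (l : Fin a) => hw'.2 (cm T (S.s i) ≫ v l)
  let α : Kr a b S.h Γ(T.left, ⊤) := fun i => Matrix.of fun j l => c i l j
  obtain ⟨φ, h1, h2⟩ := exists_desc S.toKDat (α := α) v w fun l i => (hc i l).symm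
  have h3 : IsIso φ := isIso_of_bases hS hF φ (by simpa only [h1] using hv) (by simpa only [h2] using hw)
  refine ⟨α, asIso φ, ?_, h1, h2⟩
  rw [kgood_iff]
  refine ⟨ussOK_congr (asIso φ).symm hF, fun Ω _ _ s h => ?_⟩
  have h4 := sbOn_iso (Iso.refl _) (asIso φ).symm hv
  have h5 := sbOn_iso (Iso.refl _) (asIso φ).symm hw
  have h4' : (fun l => (Iso.refl (cst k T S.L₁)).hom ≫ v l ≫ (asIso φ).symm.hom) = KE.v S.toKDat T α := by
    funext l
    change 𝟙 _ ≫ v l ≫ inv φ = _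
    rw [Category.id_comp, IsIso.comp_inv_eq, h1]
  have h5' : (fun l => (Iso.refl (cst k T S.L₂)).hom ≫ w l ≫ (asIso φ).symm.hom) = KE.w S.toKDat T α := by
    funext l
    change 𝟙 _ ≫ w l ≫ inv φ = _
    rw [Category.id_comp, IsIso.comp_inv_eq, h2]
  rw [h4'] at h4
  rw [h5'] at h5
  exact ⟨h4 _ _ _ (isPullback_XTmap h) fun _ => trivial, h5 _ _ _ (isPullback_XTmap h) fun _ => trivial⟩

variable [IsProper (X ↘ Spec (CommRingCat.of k))] [Smooth (X ↘ Spec (CommRingCat.of k))]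

include hS in
/-- **Every admissible family comes Zariski locally from a good Kronecker module.** -/
theorem ke_lift (F : (PicF.XT (st k X) T).Modules) (hF : BunMod.ussOK (st k X) r 0 T F) (t₀ : T.left) :
    ∃ (U : T.left.Opens) (α : Kr a b S.h Γ((opn T U).left, ⊤)), t₀ ∈ U ∧ KGood S.toKDat r (opn T U) α ∧
      Nonempty (KE S.toKDat (opn T U) α ≅ pl k X (opi T U) F) := by
  let Ω := AlgebraicClosure (T.left.residueField t₀)
  let t : Spec (CommRingCat.of Ω) ⟶ T.left :=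
    Spec.map (CommRingCat.ofHom (algebraMap (T.left.residueField t₀) Ω)) ≫ T.left.fromSpecResidueField t₀
  let s := t ≫ T.hom
  let h : tpt s ⟶ T := Over.homMk t rfl
  have ht : t (default : PrimeSpectrum Ω) = t₀ := T.left.fromSpecResidueField_apply t₀ _
  have hs : SSB r s (pl k X h F) := (ussOK_iff.1 hF).2 Ω s h
  have H : IsPullback (PicF.XTmap (st k X) h) (PicF.XTproj (st k X) (tpt s)) (PicF.XTproj (st k X) T) t :=
    isPullback_XTmap h
  obtain ⟨v, hv⟩ := hS.h0₁ Ω s _ hs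
  obtain ⟨w, hw⟩ := hS.h0₂ Ω s _ hs
  rw [homBasis_iff] at hv hw
  rw [SB.iso_iff _ (cstI h S.L₁).symm (Iso.refl _)] at hv
  rw [SB.iso_iff _ (cstI h S.L₂).symm (Iso.refl _)] at hw
  obtain ⟨U₁, -, ht1, h1⟩ := (vanFam₁ hS hF).exists_local t H hv (default : PrimeSpectrum Ω)
  obtain ⟨U₂, -, ht2, h2⟩ := (vanFam₂ hS hF).exists_local t H hw (default : PrimeSpectrum Ω)
  rw [ht] at ht1 ht2
  let U := U₁ ⊓ U₂
  obtain ⟨e₁, he₁⟩ := h1 _ _ _ (isPullback_XTmap (X := X) (opi T U)) fun y => y.2.1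
  obtain ⟨e₂, he₂⟩ := h2 _ _ _ (isPullback_XTmap (X := X) (opi T U)) fun y => y.2.2
  obtain ⟨α, φ, hα, -, -⟩ := exists_kgood hS (ussOK_pull (opi T U) hF)
    (sbOn_iso (cstI (opi T U) S.L₁) (Iso.refl _) he₁) (sbOn_iso (cstI (opi T U) S.L₂) (Iso.refl _) he₂)
  exact ⟨U, α, ⟨ht1, ht2⟩, hα, ⟨φ⟩⟩

end K311.Lift
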