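import Groth.Agent.SDiv.K474.FittSheaf
import Groth.Agent.SDiv.K474.FittLoc
import Groth.Agent.S4101
import Groth.Agent.SGA3.K205.EssFreeBc

/-!
# The locus over which a module on a proper essentially free family is locally free of rank `r`

`exists_locus`: `p : X ⟶ S` proper and essentially free (e.g. a base change of a proper scheme over a field),
`C` quasi-coherent of finite type on `X`: there are a closed immersion `c : T ⟶ S` and an open `U` of `T` such
that for every cartesian square over `g : S' ⟶ S` the pullback of `C` is locally free of rank `r` iff `g`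
factors through `U`.
-/

set_option autoImplicit false
universe u

open CategoryTheory CategoryTheory.Limits AlgebraicGeometry

namespace K311.FreeLocus

variable {X S : Scheme.{u}}

/-- `I.comap g = ⊥` iff the projection of the pulled back closed subscheme is an isomorphism. -/
theorem comap_eq_bot_iff {Y X : Scheme.{u}} (I : X.IdealSheafData) (g : Y ⟶ X) :
    I.comap g = ⊥ ↔ IsIso (pullback.snd I.subschemeι g) := by
  have h1 : (I.comap g) = (pullback.snd I.subschemeι g).ker := by
    have h2 : pullback.snd I.subschemeι g = (pullbackSymmetry _ _).hom ≫ pullback.fst g I.subschemeι := by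
      simp
    rw [h2, Scheme.Hom.ker_comp_of_isIso]
    rfl
  rw [h1, IsClosedImmersion.isIso_iff_ker_eq_bot]

/-- The vanishing of a pulled back ideal is a closed condition on the base. -/
theorem exists_closed (p : X ⟶ S) (hp : SGA3x.IsEssentiallyFree p) (I : X.IdealSheafData) :
    ∃ (T : Scheme.{u}) (t : T ⟶ S), IsClosedImmersion t ∧
      ∀ {X' S' : Scheme.{u}} (g' : X' ⟶ X) (p' : X' ⟶ S') (g : S' ⟶ S), IsPullback g' p' p g →
        (I.comap g' = ⊥ ↔ ∃ h : S' ⟶ T, h ≫ t = g) := by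
  obtain ⟨T, t, ht, h, -⟩ := Groth.Agent.S4101.result S X I.subscheme p hp I.subschemeι
  refine ⟨T, t, ht, fun {X' S'} g' p' g H => ?_⟩
  rw [h, ← comap_eq_bot_iff]
  have h1 : g' = H.isoPullback.hom ≫ pullback.fst p g := by simp
  have h2 : pullback.fst p g = H.isoPullback.inv ≫ g' := by simp
  constructor
  · intro h3
    rw [h2, Scheme.IdealSheafData.comap_comp, h3, Scheme.IdealSheafData.comap_bot]
  · intro h3
    rw [h1, Scheme.IdealSheafData.comap_comp, h3, Scheme.IdealSheafData.comap_bot]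

/-- A pulled back ideal is the unit ideal iff the base misses the image of its support. -/
theorem comap_eq_top_iff (p : X ⟶ S) (I : X.IdealSheafData)
    {X' S' : Scheme.{u}} (g' : X' ⟶ X) (p' : X' ⟶ S') (g : S' ⟶ S) (H : IsPullback g' p' p g) :
    I.comap g' = ⊤ ↔ ∀ s : S', g s ∉ p '' (I.support : Set X) := by
  rw [← Scheme.IdealSheafData.support_eq_bot_iff, Scheme.IdealSheafData.support_comap]
  constructor
  · rintro h s ⟨x, hx, hxs⟩
    obtain ⟨z, hz1, hz2⟩ := Scheme.Pullback.exists_preimage_pullback (f := p) (g := g) x s hxs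
    have hz : g' (H.isoPullback.inv z) = x := by
      rw [← hz1, ← Scheme.Hom.comp_apply, H.isoPullback_inv_fst]
    have : H.isoPullback.inv z ∈ (I.support.preimage g'.continuous : Set X') := by
      change g' (H.isoPullback.inv z) ∈ (I.support : Set X)
      rw [hz]
      exact hx
    rw [h] at this
    exact this
  · intro h
    ext x
    refine ⟨fun hx => ?_, fun hx => hx.elim⟩
    refine (h (p' x) ⟨g' x, hx, ?_⟩).elim
    rw [← Scheme.Hom.comp_apply, H.w, Scheme.Hom.comp_apply]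

/-- The Fitting ideals increase. -/
theorem sheafIdeal_mono (C : X.Modules) (hC : Coh.IsQCoh C) (hft : CohB1.IsFT C) {i j : ℕ} (h : i ≤ j) :
    Fitt.sheafIdeal C i ≤ Fitt.sheafIdeal C j := by
  intro U
  rw [Groth.Agent.SDiv.K474.FittSheaf.sheafIdeal_ideal C hC hft, Groth.Agent.SDiv.K474.FittSheaf.sheafIdeal_ideal C hC hft]
  have := hC
  have := Groth.Agent.CohqB.FiniteType2.finite_sections_of_isFT C hft U.2
  exact K360.FittBasic.ideal_mono h

/-- A finite supremum of ideals pulls back to zero iff all of them do. -/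
theorem comap_sup_eq_bot_iff {Y X : Scheme.{u}} (I : ℕ → X.IdealSheafData) (g : Y ⟶ X) (r : ℕ) :
    ((Finset.range r).sup I).comap g = ⊥ ↔ ∀ k : ℕ, k < r → (I k).comap g = ⊥ := by
  rw [eq_bot_iff, ← Scheme.IdealSheafData.le_map_iff_comap_le, Finset.sup_le_iff]
  refine ⟨fun h k hk => ?_, fun h k hk => ?_⟩
  · rw [eq_bot_iff, ← Scheme.IdealSheafData.le_map_iff_comap_le]
    exact h k (Finset.mem_range.2 hk)
  · rw [Scheme.IdealSheafData.le_map_iff_comap_le, h k (Finset.mem_range.1 hk)]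

/-- **The rank `r` locus.** -/
theorem exists_locus (p : X ⟶ S) (hcl : IsClosedMap p) (hp : SGA3x.IsEssentiallyFree p) (C : X.Modules)
    (hC : Coh.IsQCoh C) (hft : CohB1.IsFT C) (r : ℕ) :
    ∃ (T : Scheme.{u}) (t : T ⟶ S) (U : T.Opens), IsClosedImmersion t ∧
      ∀ {X' S' : Scheme.{u}} (g' : X' ⟶ X) (p' : X' ⟶ S') (g : S' ⟶ S), IsPullback g' p' p g →
        (FlatMod.IsFinLocFreeOfRank r ((Scheme.Modules.pullback g').obj C) ↔
          ∃ h : S' ⟶ U, h ≫ U.ι ≫ t = g) := by
  obtain ⟨T, t, ht, H⟩ := exists_closed p hp ((Finset.range r).sup (Fitt.sheafIdeal C))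
  have hcl' : IsClosed (p '' ((Fitt.sheafIdeal C r).support : Set X)) :=
    hcl _ (Fitt.sheafIdeal C r).support.isClosed
  let V : S.Opens := ⟨_, hcl'.isOpen_compl⟩
  refine ⟨T, t, t ⁻¹ᵁ V, ht, fun {X' S'} g' p' g hpb => ?_⟩
  have hC' : C.IsQuasicoherent := hC
  rw [Groth.Agent.SDiv.K474.FittLoc.isFinLocFreeOfRank_iff_fitting _
    (Groth.Agent.CohqA.PullbackQCoh.isQuasicoherent_pullback g' C) (Groth.Agent.SDiv.K474.FittSheaf.isFT_pullback g' C hC hft)]
  have e1 : (∀ k : ℕ, k < r → Fitt.sheafIdeal ((Scheme.Modules.pullback g').obj C) k = ⊥) ↔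
      ∃ h : S' ⟶ T, h ≫ t = g := by
    rw [← H g' p' g hpb, comap_sup_eq_bot_iff]
    simp only [Groth.Agent.SDiv.K474.FittSheaf.sheafIdeal_comap g' C hC hft]
  have e2 : (∀ k : ℕ, r ≤ k → Fitt.sheafIdeal ((Scheme.Modules.pullback g').obj C) k = ⊤) ↔
      ∀ s : S', g s ∈ V := by
    simp only [← Groth.Agent.SDiv.K474.FittSheaf.sheafIdeal_comap g' C hC hft]
    refine Iff.trans ?_ (comap_eq_top_iff p (Fitt.sheafIdeal C r) g' p' g hpb)
    refine ⟨fun h => h r le_rfl, fun h k hk => top_le_iff.1 ?_⟩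
    rw [← h]
    exact Scheme.IdealSheafData.comap_mono g' (sheafIdeal_mono C hC hft hk)
  rw [e1, e2]
  constructor
  · rintro ⟨⟨h, rfl⟩, h2⟩
    refine ⟨IsOpenImmersion.lift (t ⁻¹ᵁ V).ι h ?_, ?_⟩
    · rintro _ ⟨s, rfl⟩
      rw [Scheme.Opens.range_ι]
      exact h2 s
    · rw [IsOpenImmersion.lift_fac_assoc]
  · rintro ⟨h, rfl⟩
    exact ⟨⟨h ≫ (t ⁻¹ᵁ V).ι, Category.assoc _ _ _⟩, fun s => (h s).2⟩

/-- The case of a base change of a proper scheme over a field. -/
theorem exists_locus_field {k : Type u} [Field k] {X₀ : Scheme.{u}} (p₀ : X₀ ⟶ Spec (CommRingCat.of k))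
    [IsProper p₀] {X S : Scheme.{u}} (q : X ⟶ X₀) (p : X ⟶ S) (s : S ⟶ Spec (CommRingCat.of k))
    (hpb : IsPullback q p p₀ s) (C : X.Modules) (hC : Coh.IsQCoh C) (hft : CohB1.IsFT C) (r : ℕ) :
    ∃ (T : Scheme.{u}) (t : T ⟶ S) (U : T.Opens), IsClosedImmersion t ∧
      ∀ {X' S' : Scheme.{u}} (g' : X' ⟶ X) (p' : X' ⟶ S') (g : S' ⟶ S), IsPullback g' p' p g →
        (FlatMod.IsFinLocFreeOfRank r ((Scheme.Modules.pullback g').obj C) ↔
          ∃ h : S' ⟶ U, h ≫ U.ι ≫ t = g) := by
  have h1 : IsProper p := MorphismProperty.of_isPullback hpb inferInstance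
  exact exists_locus p p.isClosedMap (K205.EssFreeBc.isEssentiallyFree_of_isPullback hpb
    (K205.EssFree.isEssentiallyFree_of_field k p₀)) C hC hft r

end K311.FreeLocus
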