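import Groth.Agent.BunMod.K311.Lift
import Groth.Agent.Models2.FPCoh
import Groth.Agent.BunMod.K311.FreeLocus
import Groth.Agent.ShStab.K846.SSOpen

/-!
# Representability of good Kronecker modules

* `GoodAt D r T α h`: the conditions of `KGood` at the geometric point `h : tpt s ⟶ T`;
* `exists_good_nhd`: the good locus is open;
* `exists_krep`: the scheme of good Kronecker modules.
-/

set_option autoImplicit false
universe u

open CategoryTheory CategoryTheory.Limits AlgebraicGeometry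

namespace K311.Rep

open Groth.Agent Groth.Agent.LoccohB.HHmap Groth.Agent.LoccohB.SectLin303 K140.BM K311.KE K311.Bas K311.Fam K311.Van
  K311.KVan K311.Lift

section Pt

variable {k : Type u} [Field k] {X : Scheme.{u}} [X.Over (Spec (CommRingCat.of k))]

/-- The conditions of `KGood` at a geometric point. -/
def GoodAt (D : KDat X) (r : ℕ) {a b : ℕ} {T : Over (B0 k)} (α : Kr a b D.h Γ(T.left, ⊤)) {Ω : Type u} [Field Ω]
    {s : Spec (CommRingCat.of Ω) ⟶ B0 k} (h : tpt s ⟶ T) : Prop :=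
  SSB r s (pl k X h (KE D T α)) ∧
    SB (PicF.XTproj (st k X) (tpt s))
      (fun l : Fin a => (Scheme.Modules.pullback (PicF.XTmap (st k X) h)).map (KE.v D T α l)) ∧
    SB (PicF.XTproj (st k X) (tpt s))
      (fun j : Fin b => (Scheme.Modules.pullback (PicF.XTmap (st k X) h)).map (KE.w D T α j))

variable {D : KDat X} {r a b : ℕ} {T : Over (B0 k)}

theorem kgood_iff_goodAt {α : Kr a b D.h Γ(T.left, ⊤)} : KGood D r T α ↔ FlatMod.IsFinLocFreeOfRank r (KE D T α) ∧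
    ∀ (Ω : Type u) [Field Ω] [IsAlgClosed Ω] (s : Spec (CommRingCat.of Ω) ⟶ B0 k) (h : tpt s ⟶ T),
      GoodAt D r α h := by
  rw [kgood_iff, ussOK_iff]
  constructor
  · rintro ⟨⟨h1, h2⟩, h3⟩
    exact ⟨h1, fun Ω _ _ s h => ⟨h2 Ω s h, h3 Ω s h⟩⟩
  · rintro ⟨h1, h2⟩
    exact ⟨⟨h1, fun Ω _ _ s h => (h2 Ω s h).1⟩, fun Ω _ _ s h => (h2 Ω s h).2⟩

theorem goodAt_pull {T' : Over (B0 k)} (g : T' ⟶ T) (α : Kr a b D.h Γ(T.left, ⊤)) {Ω : Type u} [Field Ω]
    {s : Spec (CommRingCat.of Ω) ⟶ B0 k} (t : tpt s ⟶ T') :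
    GoodAt D r (kmap g.left.appTop.hom α) t ↔ GoodAt D r α (t ≫ g) := by
  obtain ⟨e, hv, hw⟩ := exists_bc D α g
  let P := Scheme.Modules.pullback (PicF.XTmap (st k X) g)
  let Q := Scheme.Modules.pullback (PicF.XTmap (st k X) t)
  have h1 : SSB r s (pl k X t (KE D T' (kmap g.left.appTop.hom α))) ↔ SSB r s (pl k X (t ≫ g) (KE D T α)) :=
    ⟨fun h => ssb_congr (plMap t e ≪≫ plComp t g (KE D T α)) h,
      fun h => ssb_congr (plMap t e ≪≫ plComp t g (KE D T α)).symm h⟩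
  have h2 : SB (PicF.XTproj (st k X) (tpt s))
      (fun l : Fin a => (Scheme.Modules.pullback (PicF.XTmap (st k X) t)).map
        (KE.v D T' (kmap g.left.appTop.hom α) l)) ↔
      SB (PicF.XTproj (st k X) (tpt s))
      (fun l : Fin a => (Scheme.Modules.pullback (PicF.XTmap (st k X) (t ≫ g))).map (KE.v D T α l)) := by
    rw [← SB.congr_iff (XTmap_comp t g), ← SB.comp_iff,
      SB.iso_iff _ (Q.mapIso (cstI g D.L₁)) (Q.mapIso e.symm)]
    have h3 : (fun l => (Q.mapIso (cstI g D.L₁)).hom ≫ Q.map (P.map (KE.v D T α l)) ≫ (Q.mapIso e.symm).hom) =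
        fun l => Q.map (KE.v D T' (kmap g.left.appTop.hom α) l) := by
      funext l
      change Q.map _ ≫ Q.map _ ≫ Q.map _ = _
      rw [← Q.map_comp, ← Q.map_comp, ← Category.assoc, ← hv, Category.assoc]
      congr 1
      exact (congrArg (KE.v D T' _ l ≫ ·) e.hom_inv_id).trans (Category.comp_id _)
    rw [← h3]
  have h3 : SB (PicF.XTproj (st k X) (tpt s))
      (fun j : Fin b => (Scheme.Modules.pullback (PicF.XTmap (st k X) t)).map
        (KE.w D T' (kmap g.left.appTop.hom α) j)) ↔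
      SB (PicF.XTproj (st k X) (tpt s))
      (fun j : Fin b => (Scheme.Modules.pullback (PicF.XTmap (st k X) (t ≫ g))).map (KE.w D T α j)) := by
    rw [← SB.congr_iff (XTmap_comp t g), ← SB.comp_iff,
      SB.iso_iff _ (Q.mapIso (cstI g D.L₂)) (Q.mapIso e.symm)]
    have h3 : (fun l => (Q.mapIso (cstI g D.L₂)).hom ≫ Q.map (P.map (KE.w D T α l)) ≫ (Q.mapIso e.symm).hom) =
        fun l => Q.map (KE.w D T' (kmap g.left.appTop.hom α) l) := by
      funext l
      change Q.map _ ≫ Q.map _ ≫ Q.map _ = _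
      rw [← Q.map_comp, ← Q.map_comp, ← Category.assoc, ← hw, Category.assoc]
      congr 1
      exact (congrArg (KE.w D T' _ l ≫ ·) e.hom_inv_id).trans (Category.comp_id _)
    rw [← h3]
  unfold GoodAt
  rw [h1, h2, h3]

/-- Composition of coordinates. -/
theorem kcrd_comp {a b h : ℕ} {T T' : Scheme.{u}} (g : T' ⟶ T) (x : T ⟶ 𝔸(KIdx.{u} a b h; B0 k)) :
    kcrd k (g ≫ x) = kmap g.appTop.hom (kcrd k x) := by
  funext i j l
  change (g ≫ x).appTop _ = g.appTop (x.appTop _)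
  rw [Scheme.Hom.comp_appTop]
  rfl

theorem kcrd_id {a b h : ℕ} {T : Scheme.{u}} (x : T ⟶ 𝔸(KIdx.{u} a b h; B0 k)) :
    kcrd k x = kmap x.appTop.hom (kcrd k (𝟙 _)) := by
  rw [← kcrd_comp, Category.comp_id]

/-- Morphisms to the space of Kronecker modules with given coordinates. -/
theorem exists_kcrd {h : ℕ} (T : Over (B0 k)) (α : Kr a b h Γ(T.left, ⊤)) :
    ∃ x : T.left ⟶ 𝔸(KIdx.{u} a b h; B0 k), x ≫ (𝔸(KIdx.{u} a b h; B0 k) ↘ B0 k) = T.hom ∧ kcrd k x = α := by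
  refine ⟨AffineSpace.homOfVector T.hom fun i => α i.down.1 i.down.2.1 i.down.2.2, ?_, ?_⟩
  · exact AffineSpace.homOfVector_over _ _
  · funext i j l
    exact AffineSpace.homOfVector_appTop_coord _ _ _

end Pt

/-- Opens of closed subschemes of Noetherian schemes are Noetherian. -/
theorem isNoetherian_open {A T : Scheme.{u}} (t : T ⟶ A) [IsClosedImmersion t] [IsNoetherian A] (U : T.Opens) :
    IsNoetherian (U : Scheme.{u}) := by
  have h1 : IsLocallyNoetherian T := LocallyOfFiniteType.isLocallyNoetherian t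
  have h2 : CompactSpace T := QuasiCompact.compactSpace_of_compactSpace t
  have h3 : IsNoetherian T := {}
  have h4 : IsLocallyNoetherian (U : Scheme.{u}) := inferInstance
  have h5 : CompactSpace (U : Scheme.{u}) :=
    isCompact_iff_compactSpace.1 (TopologicalSpace.NoetherianSpace.isCompact (U : Set T))
  exact {}

theorem isNoetherian_affineSpace {k : Type u} [Field k] {n : Type u} [Finite n] : IsNoetherian 𝔸(n; B0 k) := by
  have h1 : IsLocallyNoetherian 𝔸(n; B0 k) := LocallyOfFiniteType.isLocallyNoetherian (𝔸(n; B0 k) ↘ B0 k)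
  have h2 : CompactSpace 𝔸(n; B0 k) := QuasiCompact.compactSpace_of_compactSpace (𝔸(n; B0 k) ↘ B0 k)
  exact {}

variable {k : Type u} [Field k] {X : Scheme.{u}} [X.Over (Spec (CommRingCat.of k))]
  [IsProper (X ↘ Spec (CommRingCat.of k))] [Smooth (X ↘ Spec (CommRingCat.of k))]

/-- Openness of semistability in families of degree zero over Noetherian bases (`K846.SSOpen.exists_open`). -/
def SSO (k : Type u) [Field k] (X : Scheme.{u}) [X.Over (Spec (CommRingCat.of k))] (r : ℕ) : Prop :=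
  ∀ (T : Over (B0 k)) [IsNoetherian T.left] (F : (PicF.XT (st k X) T).Modules)
    (_ : FlatMod.IsFinLocFreeOfRank r F) (Ω : Type u) [Field Ω] (t : Spec (CommRingCat.of Ω) ⟶ T.left)
    (_ : SSB r (t ≫ T.hom) (pl k X (Over.homMk t rfl) F)),
    ∃ U : T.left.Opens, Set.range t ⊆ U ∧
      ∀ (Ω₁ : Type u) [Field Ω₁] (t₁ : Spec (CommRingCat.of Ω₁) ⟶ T.left), Set.range t₁ ⊆ U →
        SSB r (t₁ ≫ T.hom) (pl k X (Over.homMk t₁ rfl) F)

theorem range_subset_iff {Ω : Type u} [Field Ω] {T : Scheme.{u}} (t : Spec (CommRingCat.of Ω) ⟶ T) (U : Set T) :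
    Set.range t ⊆ U ↔ t (default : PrimeSpectrum Ω) ∈ U := by
  constructor
  · intro h
    exact h ⟨_, rfl⟩
  · rintro h _ ⟨x, rfl⟩
    obtain rfl : x = (default : PrimeSpectrum Ω) := Subsingleton.elim (α := PrimeSpectrum Ω) _ _
    exact h

omit [IsProper (X ↘ Spec (CommRingCat.of k))] [Smooth (X ↘ Spec (CommRingCat.of k))] in
theorem SSO.exists_open {r : ℕ} (H : SSO k X r) (T : Over (B0 k)) [IsNoetherian T.left]
    (F : (PicF.XT (st k X) T).Modules) (hF : FlatMod.IsFinLocFreeOfRank r F) {Ω : Type u} [Field Ω]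
    {s : Spec (CommRingCat.of Ω) ⟶ B0 k} (h : tpt s ⟶ T) (hs : SSB r s (pl k X h F)) :
    ∃ U : T.left.Opens, h.left (default : PrimeSpectrum Ω) ∈ U ∧
      ∀ (Ω₁ : Type u) [Field Ω₁] (s₁ : Spec (CommRingCat.of Ω₁) ⟶ B0 k) (h₁ : tpt s₁ ⟶ T),
        h₁.left (default : PrimeSpectrum Ω₁) ∈ U → SSB r s₁ (pl k X h₁ F) := by
  obtain ⟨t, ht⟩ : ∃ t : Spec (CommRingCat.of Ω) ⟶ T.left, t = h.left := ⟨_, rfl⟩
  obtain rfl : s = t ≫ T.hom := by
    rw [ht]
    exact (Over.w h).symm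
  obtain rfl : h = Over.homMk t rfl := by
    ext1
    exact ht.symm
  obtain ⟨U, h1, h2⟩ := H T F hF Ω t hs
  refine ⟨U, (range_subset_iff t U).1 h1, fun Ω₁ _ s₁ h₁ hU => ?_⟩
  obtain ⟨t₁, ht₁⟩ : ∃ t₁ : Spec (CommRingCat.of Ω₁) ⟶ T.left, t₁ = h₁.left := ⟨_, rfl⟩
  obtain rfl : s₁ = t₁ ≫ T.hom := by
    rw [ht₁]
    exact (Over.w h₁).symm
  obtain rfl : h₁ = Over.homMk t₁ rfl := by
    ext1
    exact ht₁.symm
  exact h2 Ω₁ t₁ ((range_subset_iff t₁ U).2 hU)

omit [IsProper (X ↘ Spec (CommRingCat.of k))] [Smooth (X ↘ Spec (CommRingCat.of k))] in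
/-- A morphism with values in an open factors. -/
theorem exists_opn_lift {T T' : Over (B0 k)} (g : T' ⟶ T) (U : T.left.Opens) (h : ∀ x, g.left x ∈ U) :
    ∃ c : T' ⟶ opn T U, c ≫ opi T U = g := by
  refine ⟨Over.homMk (IsOpenImmersion.lift U.ι g.left ?_) ?_, ?_⟩
  · rintro _ ⟨x, rfl⟩
    rw [Scheme.Opens.range_ι]
    exact h x
  · change _ ≫ U.ι ≫ T.hom = _
    rw [IsOpenImmersion.lift_fac_assoc]
    exact Over.w g
  · ext1
    exact IsOpenImmersion.lift_fac _ _ _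

variable {S : KSet X} {r a b : ℕ} (hS : KFit k S r a b)

include hS in
/-- **The good locus is open.** -/
theorem exists_good_nhd (hO : SSO k X r) (T : Over (B0 k)) [IsNoetherian T.left] (α : Kr a b S.h Γ(T.left, ⊤))
    (hF : FlatMod.IsFinLocFreeOfRank r (KE S.toKDat T α)) {Ω : Type u} [Field Ω]
    {s : Spec (CommRingCat.of Ω) ⟶ B0 k} (h : tpt s ⟶ T) (hg : GoodAt S.toKDat r α h) :
    ∃ V : T.left.Opens, h.left (default : PrimeSpectrum Ω) ∈ V ∧
      ∀ (Ω₁ : Type u) [Field Ω₁] (s₁ : Spec (CommRingCat.of Ω₁) ⟶ B0 k) (h₁ : tpt s₁ ⟶ T),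
        h₁.left (default : PrimeSpectrum Ω₁) ∈ V → GoodAt S.toKDat r α h₁ := by
  obtain ⟨U, hU, HU⟩ := hO.exists_open T _ hF h hg.1
  let T' := opn T U
  let o := opi T U
  let α' := kmap o.left.appTop.hom α
  obtain ⟨e, -, -⟩ := exists_bc S.toKDat α o
  have hF' : FlatMod.IsFinLocFreeOfRank r (KE S.toKDat T' α') :=
    rank_congr e.symm (PerfB.FibreConc.isFinLocFreeOfRank_pullback _ hF)
  have hss : BunMod.ussOK (st k X) r 0 T' (KE S.toKDat T' α') := by
    rw [ussOK_iff]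
    refine ⟨hF', fun Ω₁ _ _ s₁ h₁ => ?_⟩
    refine ssb_congr (plMap h₁ e ≪≫ plComp h₁ o (KE S.toKDat T α)).symm ?_
    exact HU Ω₁ s₁ (h₁ ≫ o) (h₁.left (default : PrimeSpectrum Ω₁)).2
  obtain ⟨h', hh'⟩ := exists_opn_lift h U (fun x => (range_subset_iff h.left U).2 hU ⟨x, rfl⟩)
  have hg' : GoodAt S.toKDat r α' h' := by
    rw [goodAt_pull, hh']
    exact hg
  obtain ⟨V₁, hV₁, H₁⟩ := (vanFam₁ hS hss).exists_near h'.left (isPullback_XTmap h') hg'.2.1
    (default : PrimeSpectrum Ω)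
  obtain ⟨V₂, hV₂, H₂⟩ := (vanFam₂ hS hss).exists_near h'.left (isPullback_XTmap h') hg'.2.2
    (default : PrimeSpectrum Ω)
  refine ⟨U.ι ''ᵁ (V₁ ⊓ V₂), ?_, fun Ω₁ _ s₁ h₁ hV => ?_⟩
  · refine ⟨h'.left (default : PrimeSpectrum Ω), ⟨hV₁, hV₂⟩, ?_⟩
    rw [← hh']
    rfl
  · obtain ⟨y, ⟨hy1, hy2⟩, hy⟩ := hV
    have hyU : h₁.left (default : PrimeSpectrum Ω₁) ∈ (U : Set T.left) := by
      rw [← hy]
      exact y.2
    obtain ⟨h₁', hh₁'⟩ := exists_opn_lift h₁ U (fun x => (range_subset_iff h₁.left U).2 hyU ⟨x, rfl⟩)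
    have hy' : h₁'.left (default : PrimeSpectrum Ω₁) = y := by
      apply U.ι.isOpenEmbedding.injective
      refine Eq.trans ?_ hy.symm
      rw [← hh₁']
      rfl
    rw [← hh₁', ← goodAt_pull]
    refine ⟨ssb_congr (plMap h₁' e ≪≫ plComp h₁' o (KE S.toKDat T α)).symm ?_, ?_, ?_⟩
    · rw [hh₁']
      exact HU Ω₁ s₁ h₁ hyU
    · refine H₁ _ _ _ (isPullback_XTmap h₁') fun x => ?_
      exact (range_subset_iff h₁'.left V₁).2 (hy' ▸ hy1) ⟨x, rfl⟩
    · refine H₂ _ _ _ (isPullback_XTmap h₁') fun x => ?_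
      exact (range_subset_iff h₁'.left V₂).2 (hy' ▸ hy2) ⟨x, rfl⟩

include hS in
/-- The good locus as an open subscheme. -/
theorem exists_good_open (hO : SSO k X r) (T : Over (B0 k)) [IsNoetherian T.left] (α : Kr a b S.h Γ(T.left, ⊤))
    (hF : FlatMod.IsFinLocFreeOfRank r (KE S.toKDat T α)) :
    ∃ G : T.left.Opens, KGood S.toKDat r (opn T G) (kmap (opi T G).left.appTop.hom α) ∧
      ∀ (T' : Over (B0 k)) (g : T' ⟶ T), KGood S.toKDat r T' (kmap g.left.appTop.hom α) →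
        ∃ c : T' ⟶ opn T G, c ≫ opi T G = g := by
  let G : T.left.Opens := sSup {V : T.left.Opens | ∀ (Ω₁ : Type u) [Field Ω₁]
    (s₁ : Spec (CommRingCat.of Ω₁) ⟶ B0 k) (h₁ : tpt s₁ ⟶ T),
        h₁.left (default : PrimeSpectrum Ω₁) ∈ V → GoodAt S.toKDat r α h₁}
  have hG : ∀ (Ω₁ : Type u) [Field Ω₁] (s₁ : Spec (CommRingCat.of Ω₁) ⟶ B0 k) (h₁ : tpt s₁ ⟶ T),
        h₁.left (default : PrimeSpectrum Ω₁) ∈ G → GoodAt S.toKDat r α h₁ := by
    intro Ω₁ _ s₁ h₁ h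
    obtain ⟨V, hV, hx⟩ := TopologicalSpace.Opens.mem_sSup.1 h
    exact hV Ω₁ s₁ h₁ hx
  refine ⟨G, ?_, fun T' g hg => ?_⟩
  · rw [kgood_iff_goodAt]
    obtain ⟨e, -, -⟩ := exists_bc S.toKDat α (opi T G)
    refine ⟨rank_congr e.symm (PerfB.FibreConc.isFinLocFreeOfRank_pullback _ hF), fun Ω _ _ s h => ?_⟩
    rw [goodAt_pull]
    exact hG Ω s _ (h.left (default : PrimeSpectrum Ω)).2
  · refine exists_opn_lift g G fun y => ?_
    rw [kgood_iff_goodAt] at hg
    let Ω := AlgebraicClosure (T'.left.residueField y)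
    let t : Spec (CommRingCat.of Ω) ⟶ T'.left :=
      Spec.map (CommRingCat.ofHom (algebraMap (T'.left.residueField y) Ω)) ≫ T'.left.fromSpecResidueField y
    let h : tpt (t ≫ T'.hom) ⟶ T' := Over.homMk t rfl
    have ht : t (default : PrimeSpectrum Ω) = y := T'.left.fromSpecResidueField_apply y _
    have h1 := hg.2 Ω _ h
    rw [goodAt_pull] at h1
    obtain ⟨V, hV, HV⟩ := exists_good_nhd hS hO T α hF (h ≫ g) h1
    refine TopologicalSpace.Opens.mem_sSup.2 ⟨V, HV, ?_⟩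
    have h2 : (h ≫ g).left (default : PrimeSpectrum Ω) = g.left y := by
      refine (Scheme.Hom.comp_apply t g.left _).trans ?_
      exact congrArg g.left ht
    exact h2 ▸ hV

include hS in
/-- **Representability of `KGood`.** -/
theorem exists_krep_of (hO : SSO k X r) : Nonempty (KRep (k := k) S.toKDat r a b) := by
  let A := 𝔸(KIdx.{u} a b S.h; B0 k)
  let T₀ : Over (B0 k) := Over.mk (A ↘ B0 k)
  let α₀ : Kr a b S.h Γ(T₀.left, ⊤) := kcrd k (𝟙 A)
  have hfp : CohB1.IsFP (KE S.toKDat T₀ α₀) := isFP_KE S T₀ α₀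
  have hk : IsProper (st k X) := ‹IsProper (X ↘ Spec (CommRingCat.of k))›
  obtain ⟨T₁, (t : T₁ ⟶ A), U, (ht : IsClosedImmersion t), H⟩ := K311.FreeLocus.exists_locus_field (st k X) (pullback.fst (st k X) T₀.hom)
    (PicF.XTproj (st k X) T₀) T₀.hom (IsPullback.of_hasPullback _ _) (KE S.toKDat T₀ α₀) (Models2.FPCoh.isQCoh_of_isFP hfp)
    (Models2.FPCoh.isFT_of_isFP hfp) r
  let W : Over (B0 k) := Over.mk (U.ι ≫ t ≫ (A ↘ B0 k))
  let g₁ : W ⟶ T₀ := Over.homMk (U.ι ≫ t) (Category.assoc _ _ _)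
  have hA : IsNoetherian A := isNoetherian_affineSpace
  have hW : IsNoetherian W.left := isNoetherian_open t U
  have hr1 : FlatMod.IsFinLocFreeOfRank r (pl k X g₁ (KE S.toKDat T₀ α₀)) :=
    (H _ _ _ (isPullback_XTmap g₁)).2 ⟨𝟙 _, Category.id_comp _⟩
  obtain ⟨e₁, -, -⟩ := exists_bc S.toKDat α₀ g₁
  obtain ⟨G, hG, hG'⟩ := exists_good_open hS hO W (kmap g₁.left.appTop.hom α₀) (rank_congr e₁.symm hr1)
  refine ⟨{
    Z := opn W G
    j := G.ι ≫ U.ι ≫ t
    imm := ?_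
    w := ?_
    good := ?_
    lift := ?_ }⟩
  · have h1 : IsImmersion G.ι := inferInstance
    have h2 : IsImmersion U.ι := inferInstance
    have h3 : IsImmersion t := inferInstance
    infer_instance
  · change (G.ι ≫ U.ι ≫ t) ≫ (A ↘ B0 k) = G.ι ≫ U.ι ≫ t ≫ (A ↘ B0 k)
    simp only [Category.assoc]
  · have h1 : kcrd k (G.ι ≫ U.ι ≫ t) = kmap (opi W G).left.appTop.hom (kmap g₁.left.appTop.hom α₀) := by
      rw [kcrd_id]
      have h3 : (G.ι ≫ U.ι ≫ t).appTop = g₁.left.appTop ≫ (opi W G).left.appTop :=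
        Scheme.Hom.comp_appTop G.ι (U.ι ≫ t)
      rw [h3]
      rfl
    rw [h1]
    exact hG
  · intro T α hα
    obtain ⟨x, hx, hx'⟩ := exists_kcrd T α
    let g : T ⟶ T₀ := Over.homMk x hx
    have h1 : kmap g.left.appTop.hom α₀ = α := by
      exact (kcrd_id x).symm.trans hx'
    obtain ⟨e, -, -⟩ := exists_bc S.toKDat α₀ g
    have h2 : FlatMod.IsFinLocFreeOfRank r (pl k X g (KE S.toKDat T₀ α₀)) := by
      refine rank_congr e ?_
      rw [h1]
      exact hα.1.1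
    obtain ⟨c, hc⟩ := (H _ _ _ (isPullback_XTmap g)).1 h2
    let c' : T ⟶ W := Over.homMk c (by
      change c ≫ U.ι ≫ t ≫ (A ↘ B0 k) = T.hom
      rw [← hx, ← Category.assoc U.ι, ← Category.assoc c, hc]
      rfl)
    have h3 : kmap c'.left.appTop.hom (kmap g₁.left.appTop.hom α₀) = α := by
      rw [← h1]
      have h4 : g.left.appTop = g₁.left.appTop ≫ c'.left.appTop := by
        rw [← Scheme.Hom.comp_appTop]
        exact congrArg Scheme.Hom.appTop hc.symm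
      rw [h4]
      rfl
    obtain ⟨d, hd⟩ := hG' T c' (by rw [h3]; exact hα)
    refine ⟨d, ?_⟩
    rw [← hx']
    congr 1
    have h4 : d.left ≫ G.ι = c := congrArg (fun f => f.left) hd
    change d.left ≫ G.ι ≫ U.ι ≫ t = x
    rw [← Category.assoc, h4]
    exact hc

/-- **Representability of `KGood`.** -/
theorem exists_krep [IsAlgClosed k] [CharZero k] [GeometricallyConnected (X ↘ Spec (CommRingCat.of k))]
    (hdim : topologicalKrullDim ↥X = 1) {S : KSet X} {r a b : ℕ} (hr : 1 ≤ r) (hS : KFit k S r a b) :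
    Nonempty (KRep (k := k) S.toKDat r a b) :=
  exists_krep_of hS fun T _ F hF Ω _ t hss => K846.SSOpen.exists_open k X hdim hr T F hF Ω t hss

end K311.Rep
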