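import Groth.Agent.BunMod.K311.Van
import Groth.Agent.BunMod.K140.Defs3
import Groth.Agent.Fga.EulerIso
import Groth.Agent.PerfB.FibreConc

/-!
# Families of semistable bundles

* `SSB.congr`, `plComp`, `plCongr`, `plId`;
* `ussOK_iff`, `ussOK_congr`, `ussOK_pull`;
* `kgood_iff`, `kgood_pull`, `kgood_act`, `kgood_congr`.
-/

set_option autoImplicit false
universe u

open CategoryTheory CategoryTheory.Limits AlgebraicGeometry

namespace K311.Fam

open Groth.Agent Groth.Agent.LoccohB.HHmap Groth.Agent.LoccohB.SectLin303 K140.BM K311.KE K311.Bas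

section Congr

theorem deg_congr (Ω : Type u) [Field Ω] {Y : Scheme.{u}} [Y.Over (Spec (CommRingCat.of Ω))] {M N : Y.Modules}
    (e : M ≅ N) (n : ℕ) : Curv2.deg Ω Y M n = Curv2.deg Ω Y N n := by
  unfold Curv2.deg Curv2.euler
  congr 1
  exact finsum_congr fun i => by rw [(Fga.EulerIso.HHequiv Ω e i).finrank_eq]

theorem slopeSS_congr (Ω : Type u) [Field Ω] {Y : Scheme.{u}} [Y.Over (Spec (CommRingCat.of Ω))] {M N : Y.Modules}
    (e : M ≅ N) {r : ℕ} (h : ModFun.IsSlopeSemistable Ω Y M r) : ModFun.IsSlopeSemistable Ω Y N r := by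
  intro F r' i hi hr hF
  rw [← deg_congr Ω e r]
  exact h F r' (i ≫ e.inv) (mono_comp _ _) hr hF

theorem rank_congr {Y : Scheme.{u}} {M N : Y.Modules} (e : M ≅ N) {r : ℕ}
    (h : FlatMod.IsFinLocFreeOfRank r M) : FlatMod.IsFinLocFreeOfRank r N := by
  intro x
  obtain ⟨U, hx, ⟨i⟩⟩ := h x
  exact ⟨U, hx, ⟨(Scheme.Modules.restrictFunctor U.ι).mapIso e.symm ≪≫ i⟩⟩

theorem flf_of_rank {Y : Scheme.{u}} {M : Y.Modules} {r : ℕ} (h : FlatMod.IsFinLocFreeOfRank r M) :
    FlatMod.IsFinLocFree M := by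
  intro x
  obtain ⟨U, hx, i⟩ := h x
  exact ⟨U, r, hx, i⟩

end Congr

variable {k : Type u} [Field k] {X : Scheme.{u}} [X.Over (Spec (CommRingCat.of k))]

theorem ssb_congr {r : ℕ} {Ω : Type u} [Field Ω] {s : Spec (CommRingCat.of Ω) ⟶ B0 k}
    {E E' : (PicF.XT (st k X) (tpt s)).Modules} (e : E ≅ E') (h : SSB r s E) : SSB r s E' := by
  let : (PicF.XT (st k X) (Over.mk s)).Over (Spec (CommRingCat.of Ω)) := ⟨PicF.XTproj (st k X) (Over.mk s)⟩
  exact ⟨rank_congr e h.1, (deg_congr Ω e r).symm.trans h.2.1, slopeSS_congr Ω e h.2.2⟩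

theorem XTmap_comp {T T' T'' : Over (B0 k)} (h : T'' ⟶ T') (g : T' ⟶ T) :
    PicF.XTmap (st k X) h ≫ PicF.XTmap (st k X) g = PicF.XTmap (st k X) (h ≫ g) := by
  refine pullback.hom_ext ?_ ?_
  · rw [Category.assoc, XTmap_fst, XTmap_fst, XTmap_fst]
  · have h1 := XTmap_proj (X := X) g
    have h2 := XTmap_proj (X := X) h
    have h3 := XTmap_proj (X := X) (h ≫ g)
    change (PicF.XTmap (st k X) h ≫ PicF.XTmap (st k X) g) ≫ PicF.XTproj (st k X) T =
      PicF.XTmap (st k X) (h ≫ g) ≫ PicF.XTproj (st k X) T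
    rw [Category.assoc, h1, ← Category.assoc, h2, h3, Category.assoc]
    rfl

theorem XTmap_id (T : Over (B0 k)) : PicF.XTmap (st k X) (𝟙 T) = 𝟙 _ := by
  refine pullback.hom_ext ?_ ?_
  · rw [XTmap_fst, Category.id_comp]
  · refine (XTmap_proj (X := X) (𝟙 T)).trans ?_
    change PicF.XTproj (st k X) T ≫ 𝟙 _ = 𝟙 _ ≫ PicF.XTproj (st k X) T
    rw [Category.comp_id, Category.id_comp]

/-- Composition of pull-backs of families. -/
noncomputable def plComp {T T' T'' : Over (B0 k)} (h : T'' ⟶ T') (g : T' ⟶ T) (E : (PicF.XT (st k X) T).Modules) :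
    pl k X h (pl k X g E) ≅ pl k X (h ≫ g) E :=
  (Scheme.Modules.pullbackComp (PicF.XTmap (st k X) h) (PicF.XTmap (st k X) g)).app E ≪≫
    (Scheme.Modules.pullbackCongr (XTmap_comp h g)).app E

/-- Equal morphisms have isomorphic pull-backs. -/
noncomputable def plCongr {T T' : Over (B0 k)} {g g' : T' ⟶ T} (h : g = g') (E : (PicF.XT (st k X) T).Modules) :
    pl k X g E ≅ pl k X g' E := eqToIso (by rw [h])

/-- Pull-back along the identity. -/
noncomputable def plId {T : Over (B0 k)} (E : (PicF.XT (st k X) T).Modules) : pl k X (𝟙 T) E ≅ E :=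
  (Scheme.Modules.pullbackCongr (XTmap_id T)).app E ≪≫ (Scheme.Modules.pullbackId _).app E

/-- Pull-back of isomorphisms. -/
noncomputable def plMap {T T' : Over (B0 k)} (g : T' ⟶ T) {E E' : (PicF.XT (st k X) T).Modules} (e : E ≅ E') :
    pl k X g E ≅ pl k X g E' := (Scheme.Modules.pullback (PicF.XTmap (st k X) g)).mapIso e

theorem ussOK_iff {r : ℕ} {T : Over (B0 k)} {E : (PicF.XT (st k X) T).Modules} :
    BunMod.ussOK (st k X) r 0 T E ↔ FlatMod.IsFinLocFreeOfRank r E ∧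
      ∀ (Ω : Type u) [Field Ω] [IsAlgClosed Ω] (s : Spec (CommRingCat.of Ω) ⟶ B0 k) (h : tpt s ⟶ T),
        SSB r s (pl k X h E) := by
  constructor
  · rintro ⟨h1, h2, h3⟩
    refine ⟨h1, fun Ω _ _ s h => ?_⟩
    obtain ⟨t, ht⟩ : ∃ t : Spec (CommRingCat.of Ω) ⟶ T.left, t = h.left := ⟨_, rfl⟩
    have hs : s = t ≫ T.hom := by
      rw [ht]
      exact (Over.w h).symm
    subst hs
    obtain rfl : h = Over.homMk t rfl := by
      ext1
      exact ht.symm
    exact ⟨PerfB.FibreConc.isFinLocFreeOfRank_pullback _ h1, h2 Ω t, h3 Ω t⟩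
  · rintro ⟨h1, h2⟩
    exact ⟨h1, fun Ω _ _ t => (h2 Ω (t ≫ T.hom) (Over.homMk t rfl)).2.1,
      fun Ω _ _ t => (h2 Ω (t ≫ T.hom) (Over.homMk t rfl)).2.2⟩

theorem ussOK_congr {r : ℕ} {T : Over (B0 k)} {E E' : (PicF.XT (st k X) T).Modules} (e : E ≅ E')
    (h : BunMod.ussOK (st k X) r 0 T E) : BunMod.ussOK (st k X) r 0 T E' := by
  rw [ussOK_iff] at h ⊢
  exact ⟨rank_congr e h.1, fun Ω _ _ s g => ssb_congr (plMap g e) (h.2 Ω s g)⟩

theorem ussOK_pull {r : ℕ} {T T' : Over (B0 k)} (g : T' ⟶ T) {E : (PicF.XT (st k X) T).Modules}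
    (h : BunMod.ussOK (st k X) r 0 T E) : BunMod.ussOK (st k X) r 0 T' (pl k X g E) := by
  rw [ussOK_iff] at h ⊢
  exact ⟨PerfB.FibreConc.isFinLocFreeOfRank_pullback _ h.1, fun Ω _ _ s t =>
    ssb_congr (plComp t g E).symm (h.2 Ω s (t ≫ g))⟩

section Good

variable {D : KDat X} {r a b : ℕ} {T : Over (B0 k)}

theorem kgood_iff {α : Kr a b D.h Γ(T.left, ⊤)} : KGood D r T α ↔ BunMod.ussOK (st k X) r 0 T (KE D T α) ∧
    ∀ (Ω : Type u) [Field Ω] [IsAlgClosed Ω] (s : Spec (CommRingCat.of Ω) ⟶ B0 k) (h : tpt s ⟶ T),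
      SB (PicF.XTproj (st k X) (tpt s))
        (fun l : Fin a => (Scheme.Modules.pullback (PicF.XTmap (st k X) h)).map (KE.v D T α l)) ∧
      SB (PicF.XTproj (st k X) (tpt s))
        (fun j : Fin b => (Scheme.Modules.pullback (PicF.XTmap (st k X) h)).map (KE.w D T α j)) := by
  constructor
  · rintro ⟨h1, h2⟩
    refine ⟨h1, fun Ω _ _ s h => ?_⟩
    obtain ⟨t, ht⟩ : ∃ t : Spec (CommRingCat.of Ω) ⟶ T.left, t = h.left := ⟨_, rfl⟩
    have hs : s = t ≫ T.hom := by
      rw [ht]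
      exact (Over.w h).symm
    subst hs
    obtain rfl : h = Over.homMk t rfl := by
      ext1
      exact ht.symm
    exact ⟨(homBasis_iff _ _).1 (h2 Ω t).1, (homBasis_iff _ _).1 (h2 Ω t).2⟩
  · rintro ⟨h1, h2⟩
    refine ⟨h1, fun Ω _ _ t => ?_⟩
    have h3 := h2 Ω (t ≫ T.hom) (Over.homMk t rfl)
    exact ⟨(homBasis_iff _ _).2 h3.1, (homBasis_iff _ _).2 h3.2⟩

/-- Good Kronecker modules are stable under base change. -/
theorem kgood_pull {T' : Over (B0 k)} (g : T' ⟶ T) {α : Kr a b D.h Γ(T.left, ⊤)} (h : KGood D r T α) :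
    KGood D r T' (kmap g.left.appTop.hom α) := by
  rw [kgood_iff] at h ⊢
  obtain ⟨e, hv, hw⟩ := exists_bc D α g
  refine ⟨ussOK_congr e.symm (ussOK_pull g h.1), fun Ω _ _ s t => ?_⟩
  have h2 := h.2 Ω s (t ≫ g)
  rw [← SB.congr_iff (XTmap_comp t g), ← SB.congr_iff (XTmap_comp t g), ← SB.comp_iff, ← SB.comp_iff] at h2
  let P := Scheme.Modules.pullback (PicF.XTmap (st k X) g)
  let Q := Scheme.Modules.pullback (PicF.XTmap (st k X) t)
  constructor
  · rw [SB.iso_iff _ (Q.mapIso (cstI g D.L₁)) (Q.mapIso e.symm)] at h2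
    have h3 : (fun l => (Q.mapIso (cstI g D.L₁)).hom ≫ Q.map (P.map (KE.v D T α l)) ≫ (Q.mapIso e.symm).hom) =
        fun l => Q.map (KE.v D T' (kmap g.left.appTop.hom α) l) := by
      funext l
      change Q.map _ ≫ Q.map _ ≫ Q.map _ = _
      rw [← Q.map_comp, ← Q.map_comp, ← Category.assoc, ← hv, Category.assoc]
      congr 1
      exact (congrArg (KE.v D T' _ l ≫ ·) e.hom_inv_id).trans (Category.comp_id _)
    rw [← h3]
    exact h2.1
  · have h2' := h2.2
    rw [SB.iso_iff _ (Q.mapIso (cstI g D.L₂)) (Q.mapIso e.symm)] at h2'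
    have h3 : (fun l => (Q.mapIso (cstI g D.L₂)).hom ≫ Q.map (P.map (KE.w D T α l)) ≫ (Q.mapIso e.symm).hom) =
        fun l => Q.map (KE.w D T' (kmap g.left.appTop.hom α) l) := by
      funext l
      change Q.map _ ≫ Q.map _ ≫ Q.map _ = _
      rw [← Q.map_comp, ← Q.map_comp, ← Category.assoc, ← hw, Category.assoc]
      congr 1
      exact (congrArg (KE.w D T' _ l ≫ ·) e.hom_inv_id).trans (Category.comp_id _)
    rw [← h3]
    exact h2'

end Good

section Mat

variable {Y S : Scheme.{u}}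

/-- A family obtained from a basis by an invertible matrix is a basis. -/
theorem sb_matrix (p : Y ⟶ S) {n : ℕ} {A F : Y.Modules} {e e' : Fin n → (A ⟶ F)} (h : SB p e)
    (P : GL (Fin n) Γ(S, ⊤)) (he : ∀ l, e' l = ∑ l', p.appTop (P.1 l' l) • e l') : SB p e' := by
  have h1 : (fun c : Fin n → Γ(S, ⊤) => ∑ i, p.appTop (c i) • e' i) =
      (fun c : Fin n → Γ(S, ⊤) => ∑ i, p.appTop (c i) • e i) ∘ fun c => P.1.mulVec c := by
    funext c
    simp only [Function.comp_apply, he, Finset.smul_sum]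
    rw [Finset.sum_comm]
    refine Finset.sum_congr rfl fun l' _ => ?_
    rw [Matrix.mulVec, dotProduct, _root_.map_sum, Finset.sum_smul]
    refine Finset.sum_congr rfl fun l _ => ?_
    rw [smul_smul, ← map_mul, mul_comm]
  have h2 : Function.Bijective fun c : Fin n → Γ(S, ⊤) => P.1.mulVec c := by
    refine Function.bijective_iff_has_inverse.2 ⟨fun c => (P⁻¹).1.mulVec c, fun c => ?_, fun c => ?_⟩
    · change (P⁻¹).1.mulVec (P.1.mulVec c) = c
      have h3 : (P⁻¹).1 * P.1 = 1 := P.inv_val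
      rw [Matrix.mulVec_mulVec, h3, Matrix.one_mulVec]
    · change P.1.mulVec ((P⁻¹).1.mulVec c) = c
      have h3 : P.1 * (P⁻¹).1 = 1 := P.val_inv
      rw [Matrix.mulVec_mulVec, h3, Matrix.one_mulVec]
  unfold SB
  rw [h1]
  exact h.comp h2

/-- Two bases differ by an invertible matrix. -/
theorem exists_matrix (p : Y ⟶ S) {n : ℕ} {A F : Y.Modules} {e e' : Fin n → (A ⟶ F)} (h : SB p e) (h' : SB p e') :
    ∃ P : GL (Fin n) Γ(S, ⊤), (∀ l, e' l = ∑ l', p.appTop (P.1 l' l) • e l') ∧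
      ∀ l, e l = ∑ l', p.appTop ((P⁻¹).1 l' l) • e' l' := by
  choose P hP using fun l => h.2 (e' l)
  choose Q hQ using fun l => h'.2 (e l)
  dsimp only at hP hQ
  have key : ∀ (f f' : Fin n → (A ⟶ F)) (R R' : Fin n → Fin n → Γ(S, ⊤)), SB p f →
      (∀ l, ∑ l', p.appTop (R l l') • f l' = f' l) → (∀ l, ∑ l', p.appTop (R' l l') • f' l' = f l) →
      (Matrix.of R').transpose.map id = (Matrix.of R').transpose ∧
      (Matrix.of R).transpose * (Matrix.of R').transpose = 1 := by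
    intro f f' R R' hf h1 h2
    refine ⟨by ext; rfl, ?_⟩
    ext i l
    have h3 : ∑ i, p.appTop (((Matrix.of R).transpose * (Matrix.of R').transpose) i l) • f i =
        ∑ i, p.appTop ((1 : Matrix (Fin n) (Fin n) Γ(S, ⊤)) i l) • f i := by
      have h4 : ∑ i, p.appTop ((1 : Matrix (Fin n) (Fin n) Γ(S, ⊤)) i l) • f i = f l := by
        rw [Finset.sum_eq_single l]
        · simp
        · intro m _ hm
          rw [Matrix.one_apply_ne hm, map_zero, zero_smul]
        · intro hl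
          exact (hl (Finset.mem_univ _)).elim
      rw [h4, ← h2 l]
      have h5 : ∀ i, p.appTop (((Matrix.of R).transpose * (Matrix.of R').transpose) i l) • f i =
          ∑ m, p.appTop (R' l m) • (p.appTop (R m i) • f i) := by
        intro i
        rw [Matrix.mul_apply, _root_.map_sum, Finset.sum_smul]
        refine Finset.sum_congr rfl fun m _ => ?_
        rw [smul_smul, ← map_mul, mul_comm]
        rfl
      rw [Finset.sum_congr rfl fun i _ => h5 i, Finset.sum_comm]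
      refine Finset.sum_congr rfl fun m _ => ?_
      rw [← h1 m, Finset.smul_sum]
    exact congrFun (hf.1 h3) i
  have h1 := (key e e' P Q h hP hQ).2
  have h2 := (key e' e Q P h' hQ hP).2
  exact ⟨⟨(Matrix.of P).transpose, (Matrix.of Q).transpose, h1, h2⟩, fun l => (hP l).symm, fun l => (hQ l).symm⟩

end Mat

section Act

variable {D : KDat X} {r a b : ℕ} {T : Over (B0 k)}

/-- Pull-back of a linear combination. -/
theorem pull_lin {T' : Over (B0 k)} (g : T' ⟶ T) {A F : (PicF.XT (st k X) T).Modules} {n : ℕ}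
    (c : Fin n → Γ(T.left, ⊤)) (e : Fin n → (A ⟶ F)) :
    (Scheme.Modules.pullback (PicF.XTmap (st k X) g)).map (∑ l, fT k X T (c l) • e l) =
      ∑ l, (PicF.XTproj (st k X) T').appTop (g.left.appTop (c l)) •
        (Scheme.Modules.pullback (PicF.XTmap (st k X) g)).map (e l) := by
  rw [Functor.map_sum]
  refine Finset.sum_congr rfl fun l _ => ?_
  rw [pull_smul, fT_nat]
  rfl

/-- Good is independent of the frames. -/
theorem kgood_act {α : Kr a b D.h Γ(T.left, ⊤)} (h : KGood D r T α)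
    (u : GL (Fin b) Γ(T.left, ⊤)) (v : GL (Fin a) Γ(T.left, ⊤)) : KGood D r T (kact u.1 v.1 α) := by
  rw [kgood_iff] at h ⊢
  obtain ⟨e, hv, hw⟩ := exists_act (α := α) u v
  refine ⟨ussOK_congr e.symm h.1, fun Ω _ _ s t => ?_⟩
  let Q := Scheme.Modules.pullback (PicF.XTmap (st k X) t)
  constructor
  · rw [SB.iso_iff _ (Iso.refl _) (Q.mapIso e)]
    refine sb_matrix _ (h.2 Ω s t).1 (Matrix.GeneralLinearGroup.map t.left.appTop.hom v) fun l => ?_
    change 𝟙 _ ≫ Q.map _ ≫ Q.map _ = _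
    rw [Category.id_comp, ← Q.map_comp, hv, pull_lin]
    rfl
  · rw [SB.iso_iff _ (Iso.refl _) (Q.mapIso e)]
    refine sb_matrix _ (h.2 Ω s t).2 (Matrix.GeneralLinearGroup.map t.left.appTop.hom u⁻¹) fun l => ?_
    change 𝟙 _ ≫ Q.map _ ≫ Q.map _ = _
    rw [Category.id_comp, ← Q.map_comp, hw, pull_lin]
    rfl

/-- **Isomorphisms come from changes of frames**, given that the tautological tuples are bases over `T`. -/
theorem orb_of_sb {α α' : Kr a b D.h Γ(T.left, ⊤)} (hv : SB (PicF.XTproj (st k X) T) (KE.v D T α))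
    (hw : SB (PicF.XTproj (st k X) T) (KE.w D T α)) (hv' : SB (PicF.XTproj (st k X) T) (KE.v D T α'))
    (hw' : SB (PicF.XTproj (st k X) T) (KE.w D T α')) (ε : KE D T α ≅ KE D T α') :
    ∃ (u : GL (Fin b) Γ(T.left, ⊤)) (v : GL (Fin a) Γ(T.left, ⊤)), α' = kact u.1 v.1 α ∧
      (∀ l, KE.v D T α' l ≫ ε.inv = ∑ l', fT k X T (v.1 l' l) • KE.v D T α l') ∧
      ∀ j, KE.w D T α' j ≫ ε.inv = ∑ j', fT k X T ((u⁻¹).1 j' j) • KE.w D T α j' := by
  rw [SB.iso_iff _ (Iso.refl _) ε.symm] at hv' hw'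
  obtain ⟨P, hP, hP'⟩ := exists_matrix _ hv hv'
  obtain ⟨Q, hQ, hQ'⟩ := exists_matrix _ hw hw'
  have hPe : ∀ l, KE.v D T α' l ≫ ε.inv = ∑ l', fT k X T (P.1 l' l) • KE.v D T α l' := fun l => by
    rw [← Category.id_comp (KE.v D T α' l ≫ ε.inv)]
    exact hP l
  have hQe : ∀ l, KE.w D T α' l ≫ ε.inv = ∑ l', fT k X T (Q.1 l' l) • KE.w D T α l' := fun l => by
    rw [← Category.id_comp (KE.w D T α' l ≫ ε.inv)]
    exact hQ l
  refine ⟨Q⁻¹, P, ?_, hPe, fun j => ?_⟩
  · have key : ∀ i, α i * P.1 = Q.1 * α' i := by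
      intro i
      ext j l
      have h1 : cm T (D.s i) ≫ KE.v D T α' l ≫ ε.inv = ∑ j, fT k X T ((α i * P.1) j l) • KE.w D T α j := by
        rw [hPe, Preadditive.comp_sum]
        have h2 : ∀ l', cm T (D.s i) ≫ (fT k X T (P.1 l' l) • KE.v D T α l') =
            ∑ j, (fT k X T (α i j l' * P.1 l' l)) • KE.w D T α j := by
          intro l'
          rw [Linear.comp_smul, rel_eq, Finset.smul_sum]
          refine Finset.sum_congr rfl fun j' _ => ?_
          rw [smul_smul, ← map_mul, mul_comm]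
        rw [Finset.sum_congr rfl fun l' _ => h2 l']
        refine Finset.sum_comm.trans (Finset.sum_congr rfl fun j' _ => ?_)
        rw [← Finset.sum_smul, ← _root_.map_sum]
        rfl
      have h3 : cm T (D.s i) ≫ KE.v D T α' l ≫ ε.inv = ∑ j, fT k X T ((Q.1 * α' i) j l) • KE.w D T α j := by
        rw [← Category.assoc, rel_eq, Preadditive.sum_comp]
        have h2 : ∀ j', (fT k X T (α' i j' l) • KE.w D T α' j') ≫ ε.inv =
            ∑ j, (fT k X T (Q.1 j j' * α' i j' l)) • KE.w D T α j := by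
          intro j'
          rw [Linear.smul_comp, hQe, Finset.smul_sum]
          refine Finset.sum_congr rfl fun j'' _ => ?_
          rw [smul_smul, ← map_mul, mul_comm]
        rw [Finset.sum_congr rfl fun l' _ => h2 l']
        refine Finset.sum_comm.trans (Finset.sum_congr rfl fun j' _ => ?_)
        rw [← Finset.sum_smul, ← _root_.map_sum]
        rfl
      exact congrFun (hw.1 (h1.symm.trans h3)) j
    funext i
    change α' i = (Q⁻¹).1 * α i * P.1
    have h3 : (Q⁻¹).1 * Q.1 = 1 := Q.inv_val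
    rw [Matrix.mul_assoc, key, ← Matrix.mul_assoc, h3, Matrix.one_mul]
  · rw [inv_inv]
    exact hQe j

end Act

end K311.Fam
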