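import Groth.Agent.BunMod.K140.Defs2
import Groth.Agent.LoccohB.SectLin303

/-!
# The module `E_α`: universal property and base change

* `pull_smul`: pull-back is semilinear;
* `cstI g L`: the constant family commutes with base change, naturally in `L` (`cstI_nat`);
* `KE.desc`, `KE.hom_ext`, `KE.rel_eq`: homomorphisms `E_α ⟶ F`;
* `KE.pull_hom_ext`, `KE.bc g α : KE D T' (kmap α) ≅ pl g (KE D T α)` with `v_bc`, `w_bc`.
-/

set_option autoImplicit false
universe u

open CategoryTheory CategoryTheory.Limits AlgebraicGeometry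

namespace K311.KE

open Groth.Agent.LoccohB.HHmap Groth.Agent.LoccohB.SectLin303 K140.BM

section Pull

variable {X Y : Scheme.{u}}

/-- Pull-back intertwines multiplication by `g` and by `f^# g`. -/
theorem inter_pullback (f : X ⟶ Y) (g : Γ(Y, ⊤)) : Inter (Scheme.Modules.pullback f) g (f.appTop g) := by
  intro M
  apply ((Scheme.Modules.pullbackPushforwardAdjunction f).homEquiv _ _).injective
  have h1 := inter_pushforward f g ((Scheme.Modules.pullback f).obj M)
  rw [Adjunction.homEquiv_unit, Adjunction.homEquiv_unit, h1]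
  have h2 := (Scheme.Modules.pullbackPushforwardAdjunction f).unit.naturality (g • 𝟙 M)
  refine h2.symm.trans ?_
  change (g • 𝟙 M) ≫ _ = _
  rw [Linear.smul_comp, Linear.comp_smul, Category.id_comp]
  exact congrArg (g • ·) (Category.comp_id _).symm

theorem pull_smul (f : X ⟶ Y) (g : Γ(Y, ⊤)) {M N : Y.Modules} (φ : M ⟶ N) :
    (Scheme.Modules.pullback f).map (g • φ) = (f.appTop g) • (Scheme.Modules.pullback f).map φ :=
  (inter_pullback f g).map_smul φ

/-- The adjoint of a multiple. -/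
theorem homEquiv_smul (f : X ⟶ Y) (g : Γ(Y, ⊤)) {M : Y.Modules} {N : X.Modules}
    (φ : (Scheme.Modules.pullback f).obj M ⟶ N) :
    (Scheme.Modules.pullbackPushforwardAdjunction f).homEquiv _ _ (f.appTop g • φ) =
      g • (Scheme.Modules.pullbackPushforwardAdjunction f).homEquiv _ _ φ := by
  rw [Adjunction.homEquiv_unit, Adjunction.homEquiv_unit, (inter_pushforward f g).map_smul, Linear.comp_smul]

end Pull

section

variable {k : Type u} [Field k] {X : Scheme.{u}} [X.Over (Spec (CommRingCat.of k))]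

theorem XTmap_fst {T T' : Over (B0 k)} (g : T' ⟶ T) :
    PicF.XTmap (st k X) g ≫ pullback.fst (st k X) T.hom = pullback.fst (st k X) T'.hom :=
  (pullback.lift_fst _ _ _).trans (Category.comp_id _)

theorem XTmap_proj {T T' : Over (B0 k)} (g : T' ⟶ T) :
    PicF.XTmap (st k X) g ≫ PicF.XTproj (st k X) T = PicF.XTproj (st k X) T' ≫ g.left :=
  pullback.lift_snd _ _ _

theorem isPullback_XTmap {T T' : Over (B0 k)} (g : T' ⟶ T) :
    IsPullback (PicF.XTmap (st k X) g) (PicF.XTproj (st k X) T') (PicF.XTproj (st k X) T) g.left := by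
  have h1 : IsPullback (PicF.XTmap (st k X) g ≫ pullback.fst (st k X) T.hom) (PicF.XTproj (st k X) T')
      (st k X) (g.left ≫ T.hom) := by
    rw [XTmap_fst, Over.w]
    exact IsPullback.of_hasPullback _ _
  exact IsPullback.of_right h1 (XTmap_proj g) (IsPullback.of_hasPullback _ _)

theorem fT_nat {T T' : Over (B0 k)} (g : T' ⟶ T) (c : Γ(T.left, ⊤)) :
    (PicF.XTmap (st k X) g).appTop (fT k X T c) = fT k X T' (g.left.appTop c) := by
  have h := congrArg (fun t => t.appTop c) (XTmap_proj (X := X) g)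
  rw [Scheme.Hom.comp_appTop, Scheme.Hom.comp_appTop] at h
  exact h

/-- The constant family commutes with base change. -/
noncomputable def cstN {T T' : Over (B0 k)} (g : T' ⟶ T) :
    Scheme.Modules.pullback (pullback.fst (st k X) T'.hom) ≅
      Scheme.Modules.pullback (pullback.fst (st k X) T.hom) ⋙ Scheme.Modules.pullback (PicF.XTmap (st k X) g) :=
  Scheme.Modules.pullbackCongr (XTmap_fst g).symm ≪≫
    (Scheme.Modules.pullbackComp (PicF.XTmap (st k X) g) (pullback.fst (st k X) T.hom)).symm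

/-- The constant family commutes with base change. -/
noncomputable def cstI {T T' : Over (B0 k)} (g : T' ⟶ T) (L : X.Modules) :
    cst k T' L ≅ pl k X g (cst k T L) := (cstN g).app L

/-- Pull-back of homomorphisms of constant families. -/
noncomputable abbrev cm (T : Over (B0 k)) {L L' : X.Modules} (s : L ⟶ L') : cst k T L ⟶ cst k T L' :=
  (Scheme.Modules.pullback (pullback.fst (st k X) T.hom)).map s

theorem cstI_nat {T T' : Over (B0 k)} (g : T' ⟶ T) {L L' : X.Modules} (s : L ⟶ L') :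
    cm T' s ≫ (cstI g L').hom = (cstI g L).hom ≫ (Scheme.Modules.pullback (PicF.XTmap (st k X) g)).map (cm T s) :=
  (cstN g).hom.naturality s

variable (D : KDat X) {a b : ℕ} (T : Over (B0 k)) (α : Kr a b D.h Γ(T.left, ⊤))

/-- The relations of the tautological homomorphisms. -/
theorem rel_eq (l : Fin a) (i : Fin D.h) :
    cm T (D.s i) ≫ KE.v D T α l = ∑ j, fT k X T (α i j l) • KE.w D T α j := by
  have h : biproduct.ι (fun _ : Fin a × Fin D.h => cst k T D.L₂) (l, i) ≫ KE.rel D T α ≫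
      cokernel.π (KE.rel D T α) = 0 := by rw [cokernel.condition, comp_zero]
  rw [← Category.assoc] at h
  have h2 : biproduct.ι (fun _ : Fin a × Fin D.h => cst k T D.L₂) (l, i) ≫ KE.rel D T α = biprod.lift
      (cm T (D.s i) ≫ biproduct.ι (fun _ : Fin a => cst k T D.L₁) l)
      (- ∑ j : Fin b, smulHom _ (fT k X T (α i j l)) ≫ biproduct.ι (fun _ : Fin b => cst k T D.L₂) j) :=
    biproduct.ι_desc _ _
  rw [h2, biprod.lift_eq, Preadditive.add_comp, Preadditive.neg_comp, Preadditive.neg_comp, add_neg_eq_zero,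
    Preadditive.sum_comp, Preadditive.sum_comp] at h
  simp only [Category.assoc] at h
  exact h

variable {T α} in
theorem hom_ext {F : (PicF.XT (st k X) T).Modules} {φ ψ : KE D T α ⟶ F}
    (hv : ∀ l, KE.v D T α l ≫ φ = KE.v D T α l ≫ ψ) (hw : ∀ j, KE.w D T α j ≫ φ = KE.w D T α j ≫ ψ) :
    φ = ψ := by
  refine (cancel_epi (cokernel.π (KE.rel D T α))).1 (biprod.hom_ext' _ _ ?_ ?_)
  · refine biproduct.hom_ext' _ _ fun l => ?_
    have := hv l
    simp only [KE.v, Category.assoc] at this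
    exact this
  · refine biproduct.hom_ext' _ _ fun j => ?_
    have := hw j
    simp only [KE.w, Category.assoc] at this
    exact this

theorem v_desc {F : (PicF.XT (st k X) T).Modules} (v : Fin a → (cst k T D.L₁ ⟶ F)) (w : Fin b → (cst k T D.L₂ ⟶ F))
    (hr) (l : Fin a) : KE.v D T α l ≫ KE.desc D T α v w hr = v l := by
  have h1 : cokernel.π (KE.rel D T α) ≫ KE.desc D T α v w hr =
    biprod.desc (biproduct.desc v) (biproduct.desc w) := cokernel.π_desc _ _ _
  refine (Category.assoc _ _ _).trans ((congrArg (biproduct.ι (fun _ : Fin a => cst k T D.L₁) l ≫ ·)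
    ((Category.assoc _ _ _).trans (congrArg (biprod.inl ≫ ·) h1))).trans ?_)
  rw [biprod.inl_desc, biproduct.ι_desc]

theorem w_desc {F : (PicF.XT (st k X) T).Modules} (v : Fin a → (cst k T D.L₁ ⟶ F)) (w : Fin b → (cst k T D.L₂ ⟶ F))
    (hr) (j : Fin b) : KE.w D T α j ≫ KE.desc D T α v w hr = w j := by
  have h1 : cokernel.π (KE.rel D T α) ≫ KE.desc D T α v w hr =
    biprod.desc (biproduct.desc v) (biproduct.desc w) := cokernel.π_desc _ _ _
  refine (Category.assoc _ _ _).trans ((congrArg (biproduct.ι (fun _ : Fin b => cst k T D.L₂) j ≫ ·)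
    ((Category.assoc _ _ _).trans (congrArg (biprod.inr ≫ ·) h1))).trans ?_)
  rw [biprod.inr_desc, biproduct.ι_desc]

variable {T α} in
/-- Homomorphisms out of `E_α`, existence. -/
theorem exists_desc {F : (PicF.XT (st k X) T).Modules} (v : Fin a → (cst k T D.L₁ ⟶ F))
    (w : Fin b → (cst k T D.L₂ ⟶ F)) (hr : ∀ (l : Fin a) (i : Fin D.h),
      cm T (D.s i) ≫ v l = ∑ j, fT k X T (α i j l) • w j) :
    ∃ φ : KE D T α ⟶ F, (∀ l, KE.v D T α l ≫ φ = v l) ∧ ∀ j, KE.w D T α j ≫ φ = w j :=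
  ⟨KE.desc D T α v w hr, fun l => v_desc D T α v w hr l, fun j => w_desc D T α v w hr j⟩

section PullK

variable {Y : Scheme.{u}} (h : Y ⟶ PicF.XT (st k X) T)

variable {T α} in
theorem pull_hom_ext {F : Y.Modules} {φ ψ : (Scheme.Modules.pullback h).obj (KE D T α) ⟶ F}
    (hv : ∀ l, (Scheme.Modules.pullback h).map (KE.v D T α l) ≫ φ = (Scheme.Modules.pullback h).map (KE.v D T α l) ≫ ψ)
    (hw : ∀ j, (Scheme.Modules.pullback h).map (KE.w D T α j) ≫ φ =
      (Scheme.Modules.pullback h).map (KE.w D T α j) ≫ ψ) : φ = ψ := by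
  apply ((Scheme.Modules.pullbackPushforwardAdjunction h).homEquiv _ _).injective
  refine hom_ext D (fun l => ?_) (fun j => ?_)
  · rw [← Adjunction.homEquiv_naturality_left, ← Adjunction.homEquiv_naturality_left, hv]
  · rw [← Adjunction.homEquiv_naturality_left, ← Adjunction.homEquiv_naturality_left, hw]

/-- Homomorphisms out of a pull-back of `E_α`. -/
theorem exists_pull_desc {F : Y.Modules} (v : Fin a → ((Scheme.Modules.pullback h).obj (cst k T D.L₁) ⟶ F))
    (w : Fin b → ((Scheme.Modules.pullback h).obj (cst k T D.L₂) ⟶ F))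
    (hr : ∀ (l : Fin a) (i : Fin D.h), (Scheme.Modules.pullback h).map (cm T (D.s i)) ≫ v l =
      ∑ j, h.appTop (fT k X T (α i j l)) • w j) :
    ∃ φ : (Scheme.Modules.pullback h).obj (KE D T α) ⟶ F,
      (∀ l, (Scheme.Modules.pullback h).map (KE.v D T α l) ≫ φ = v l) ∧
      ∀ j, (Scheme.Modules.pullback h).map (KE.w D T α j) ≫ φ = w j := by
  let adj := Scheme.Modules.pullbackPushforwardAdjunction h
  obtain ⟨ψ, hψ1, hψ2⟩ := exists_desc D (α := α) (F := (Scheme.Modules.pushforward h).obj F)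
    (fun l => adj.homEquiv _ _ (v l)) (fun j => adj.homEquiv _ _ (w j)) (fun l i => by
      rw [← Adjunction.homEquiv_naturality_left, hr]
      have h1 : ∀ (t : Finset (Fin b)) (x : Fin b → ((Scheme.Modules.pullback h).obj (cst k T D.L₂) ⟶ F)),
          adj.homEquiv _ _ (∑ j ∈ t, x j) = ∑ j ∈ t, adj.homEquiv _ _ (x j) := by
        intro t x
        induction t using Finset.cons_induction with
        | empty =>
          rw [Finset.sum_empty, Finset.sum_empty, Adjunction.homEquiv_unit, Functor.map_zero, comp_zero]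
        | cons j t hj ih =>
          rw [Finset.sum_cons, Finset.sum_cons, ← ih, Adjunction.homEquiv_unit, Functor.map_add,
            Preadditive.comp_add, Adjunction.homEquiv_unit, Adjunction.homEquiv_unit]
      rw [h1]
      refine Finset.sum_congr rfl fun j _ => ?_
      exact homEquiv_smul h _ _)
  refine ⟨(adj.homEquiv _ _).symm ψ, fun l => ?_, fun j => ?_⟩
  · rw [← Adjunction.homEquiv_naturality_left_symm, Equiv.symm_apply_eq]
    exact hψ1 l
  · rw [← Adjunction.homEquiv_naturality_left_symm, Equiv.symm_apply_eq]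
    exact hψ2 j

end PullK

variable {T} in
/-- Base change of `E_α`. -/
theorem exists_bc {T' : Over (B0 k)} (g : T' ⟶ T) :
    ∃ e : KE D T' (kmap g.left.appTop.hom α) ≅ pl k X g (KE D T α),
      (∀ l, KE.v D T' _ l ≫ e.hom =
        (cstI g D.L₁).hom ≫ (Scheme.Modules.pullback (PicF.XTmap (st k X) g)).map (KE.v D T α l)) ∧
      ∀ j, KE.w D T' _ j ≫ e.hom =
        (cstI g D.L₂).hom ≫ (Scheme.Modules.pullback (PicF.XTmap (st k X) g)).map (KE.w D T α j) := by
  let P := Scheme.Modules.pullback (PicF.XTmap (st k X) g)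
  obtain ⟨φ, hφv, hφw⟩ := exists_desc D (α := kmap g.left.appTop.hom α) (F := pl k X g (KE D T α))
    (fun l => (cstI g D.L₁).hom ≫ P.map (KE.v D T α l))
      (fun j => (cstI g D.L₂).hom ≫ P.map (KE.w D T α j)) (fun l i => by
        rw [← Category.assoc, cstI_nat, Category.assoc, ← P.map_comp, rel_eq, Functor.map_sum,
          Preadditive.comp_sum]
        refine Finset.sum_congr rfl fun j _ => ?_
        rw [pull_smul, fT_nat, Linear.comp_smul]
        rfl)
  obtain ⟨ψ, hψv, hψw⟩ := exists_pull_desc D T α (PicF.XTmap (st k X) g)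
    (fun l => (cstI g D.L₁).inv ≫ KE.v D T' (kmap g.left.appTop.hom α) l)
    (fun j => (cstI g D.L₂).inv ≫ KE.w D T' (kmap g.left.appTop.hom α) j) (fun l i => by
      rw [← Category.assoc]
      have h1 : P.map (cm T (D.s i)) ≫ (cstI g D.L₁).inv = (cstI g D.L₂).inv ≫ cm T' (D.s i) := by
        rw [Iso.eq_inv_comp, ← Category.assoc, Iso.comp_inv_eq, cstI_nat]
      rw [h1, Category.assoc, rel_eq, Preadditive.comp_sum]
      refine Finset.sum_congr rfl fun j _ => ?_
      rw [Linear.comp_smul, fT_nat]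
      rfl)
  refine ⟨⟨φ, ψ, hom_ext D (fun l => ?_) (fun j => ?_), pull_hom_ext D _ (fun l => ?_) (fun j => ?_)⟩, hφv, hφw⟩
  · rw [← Category.assoc, hφv, Category.assoc, hψv, Iso.hom_inv_id_assoc, Category.comp_id]
  · rw [← Category.assoc, hφw, Category.assoc, hψw, Iso.hom_inv_id_assoc, Category.comp_id]
  · rw [← Category.assoc, hψv, Category.assoc, hφv, Iso.inv_hom_id_assoc, Category.comp_id]
  · rw [← Category.assoc, hψw, Category.assoc, hφw, Iso.inv_hom_id_assoc, Category.comp_id]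

variable {T α} in
/-- **Base change.** -/
theorem ke_pull {T' : Over (B0 k)} (g : T' ⟶ T) :
    Nonempty (pl k X g (KE D T α) ≅ KE D T' (kmap g.left.appTop.hom α)) := by
  obtain ⟨e, -, -⟩ := exists_bc D α g
  exact ⟨e.symm⟩

section Mat

variable {D} {T} {α α' : Kr a b D.h Γ(T.left, ⊤)}

/-- The homomorphism `E_α ⟶ E_α'` given by matrices `P`, `Q` with `α' P = Q α`. -/
theorem exists_mat (P : Matrix (Fin a) (Fin a) Γ(T.left, ⊤)) (Q : Matrix (Fin b) (Fin b) Γ(T.left, ⊤))
    (h : ∀ i, α' i * P = Q * α i) :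
    ∃ φ : KE D T α ⟶ KE D T α', (∀ l, KE.v D T α l ≫ φ = ∑ l', fT k X T (P l' l) • KE.v D T α' l') ∧
      ∀ j, KE.w D T α j ≫ φ = ∑ j', fT k X T (Q j' j) • KE.w D T α' j' := by
  refine exists_desc D (fun l => ∑ l', fT k X T (P l' l) • KE.v D T α' l')
    (fun j => ∑ j', fT k X T (Q j' j) • KE.w D T α' j') (fun l i => ?_)
  rw [Preadditive.comp_sum]
  have h1 : ∀ l', cm T (D.s i) ≫ (fT k X T (P l' l) • KE.v D T α' l') =
      ∑ j', (fT k X T (α' i j' l' * P l' l)) • KE.w D T α' j' := by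
    intro l'
    rw [Linear.comp_smul, rel_eq, Finset.smul_sum]
    refine Finset.sum_congr rfl fun j' _ => ?_
    rw [smul_smul, ← map_mul, mul_comm]
  have h2 : ∀ j, fT k X T (α i j l) • ∑ j', fT k X T (Q j' j) • KE.w D T α' j' =
      ∑ j', (fT k X T (Q j' j * α i j l)) • KE.w D T α' j' := by
    intro j
    rw [Finset.smul_sum]
    refine Finset.sum_congr rfl fun j' _ => ?_
    rw [smul_smul, ← map_mul, mul_comm]
  rw [Finset.sum_congr rfl fun l' _ => h1 l', Finset.sum_congr rfl fun j _ => h2 j]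
  refine Finset.sum_comm.trans (Eq.trans ?_ Finset.sum_comm)
  refine Finset.sum_congr rfl fun j' _ => ?_
  rw [← Finset.sum_smul, ← Finset.sum_smul, ← _root_.map_sum, ← _root_.map_sum]
  congr 2
  exact congrFun (congrFun (h i) j') l

/-- Mutually inverse matrices give inverse homomorphisms. -/
theorem mat_comp {φ : KE D T α ⟶ KE D T α'} {ψ : KE D T α' ⟶ KE D T α}
    {P P' : Matrix (Fin a) (Fin a) Γ(T.left, ⊤)} {Q Q' : Matrix (Fin b) (Fin b) Γ(T.left, ⊤)}
    (hv : ∀ l, KE.v D T α l ≫ φ = ∑ l', fT k X T (P l' l) • KE.v D T α' l')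
    (hw : ∀ j, KE.w D T α j ≫ φ = ∑ j', fT k X T (Q j' j) • KE.w D T α' j')
    (hv' : ∀ l, KE.v D T α' l ≫ ψ = ∑ l', fT k X T (P' l' l) • KE.v D T α l')
    (hw' : ∀ j, KE.w D T α' j ≫ ψ = ∑ j', fT k X T (Q' j' j) • KE.w D T α j')
    (hP : P' * P = 1) (hQ : Q' * Q = 1) : φ ≫ ψ = 𝟙 _ := by
  refine hom_ext D (fun l => ?_) (fun j => ?_)
  · rw [← Category.assoc, hv, Preadditive.sum_comp, Category.comp_id]
    have h1 : ∀ l', (fT k X T (P l' l) • KE.v D T α' l') ≫ ψ =
        ∑ m, fT k X T (P' m l' * P l' l) • KE.v D T α m := by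
      intro l'
      rw [Linear.smul_comp, hv', Finset.smul_sum]
      refine Finset.sum_congr rfl fun m _ => ?_
      rw [smul_smul, ← map_mul, mul_comm]
    rw [Finset.sum_congr rfl fun l' _ => h1 l', Finset.sum_comm]
    have h2 : ∀ m, ∑ l', fT k X T (P' m l' * P l' l) • KE.v D T α m =
        fT k X T ((1 : Matrix (Fin a) (Fin a) Γ(T.left, ⊤)) m l) • KE.v D T α m := by
      intro m
      rw [← Finset.sum_smul, ← _root_.map_sum]
      congr 2
      exact congrFun (congrFun hP m) l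
    rw [Finset.sum_congr rfl fun m _ => h2 m, Finset.sum_eq_single l]
    · simp
    · intro m _ hm
      rw [Matrix.one_apply_ne hm, map_zero, zero_smul]
    · intro hl
      exact (hl (Finset.mem_univ _)).elim
  · rw [← Category.assoc, hw, Preadditive.sum_comp, Category.comp_id]
    have h1 : ∀ l', (fT k X T (Q l' j) • KE.w D T α' l') ≫ ψ =
        ∑ m, fT k X T (Q' m l' * Q l' j) • KE.w D T α m := by
      intro l'
      rw [Linear.smul_comp, hw', Finset.smul_sum]
      refine Finset.sum_congr rfl fun m _ => ?_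
      rw [smul_smul, ← map_mul, mul_comm]
    rw [Finset.sum_congr rfl fun l' _ => h1 l', Finset.sum_comm]
    have h2 : ∀ m, ∑ l', fT k X T (Q' m l' * Q l' j) • KE.w D T α m =
        fT k X T ((1 : Matrix (Fin b) (Fin b) Γ(T.left, ⊤)) m j) • KE.w D T α m := by
      intro m
      rw [← Finset.sum_smul, ← _root_.map_sum]
      congr 2
      exact congrFun (congrFun hQ m) j
    rw [Finset.sum_congr rfl fun m _ => h2 m, Finset.sum_eq_single j]
    · simp
    · intro m _ hm
      rw [Matrix.one_apply_ne hm, map_zero, zero_smul]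
    · intro hl
      exact (hl (Finset.mem_univ _)).elim

/-- **The action does not change `E_α`**, with the matrices. -/
theorem exists_act (u : GL (Fin b) Γ(T.left, ⊤)) (v : GL (Fin a) Γ(T.left, ⊤)) :
    ∃ e : KE D T (kact (u : Matrix (Fin b) (Fin b) Γ(T.left, ⊤)) (v : Matrix (Fin a) (Fin a) Γ(T.left, ⊤)) α) ≅
        KE D T α,
      (∀ l, KE.v D T _ l ≫ e.hom = ∑ l', fT k X T (v.1 l' l) • KE.v D T α l') ∧
      ∀ j, KE.w D T _ j ≫ e.hom = ∑ j', fT k X T ((u⁻¹).1 j' j) • KE.w D T α j' := by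
  let β := kact (u : Matrix (Fin b) (Fin b) Γ(T.left, ⊤)) (v : Matrix (Fin a) (Fin a) Γ(T.left, ⊤)) α
  obtain ⟨φ, hφ1, hφ2⟩ := exists_mat (α := β) (α' := α) v.1 (u⁻¹).1 (fun i => by
    change α i * v.1 = (u⁻¹).1 * (u.1 * α i * v.1)
    rw [← Matrix.mul_assoc, ← Matrix.mul_assoc]
    have : (u⁻¹).1 * u.1 = 1 := u.inv_val
    rw [this, Matrix.one_mul])
  obtain ⟨ψ, hψ1, hψ2⟩ := exists_mat (α := α) (α' := β) (v⁻¹).1 u.1 (fun i => by
    change (u.1 * α i * v.1) * (v⁻¹).1 = u.1 * α i
    rw [Matrix.mul_assoc]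
    have : v.1 * (v⁻¹).1 = 1 := v.val_inv
    rw [this, Matrix.mul_one])
  exact ⟨⟨φ, ψ, mat_comp hφ1 hφ2 hψ1 hψ2 v.inv_val u.val_inv,
    mat_comp hψ1 hψ2 hφ1 hφ2 v.val_inv u.inv_val⟩, hφ1, hφ2⟩

theorem ke_act (u : GL (Fin b) Γ(T.left, ⊤)) (v : GL (Fin a) Γ(T.left, ⊤)) :
    Nonempty (KE D T (kact (u : Matrix (Fin b) (Fin b) Γ(T.left, ⊤)) (v : Matrix (Fin a) (Fin a) Γ(T.left, ⊤)) α) ≅
        KE D T α) := by
  obtain ⟨e, -, -⟩ := exists_act (α := α) u v
  exact ⟨e⟩

end Mat

end

end K311.KE
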