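import Mathlib.RingTheory.LocalRing.Module
import Mathlib.RingTheory.Flat.FaithfullyFlat.Basic
import Mathlib.LinearAlgebra.TensorProduct.RightExactness

/-!
# Bijectivity tested after a local base change
-/

set_option autoImplicit false
universe u

open TensorProduct IsLocalRing

namespace K311.LocAlg

variable {A B : Type u} [CommRing A] [IsLocalRing A] [CommRing B] [IsLocalRing B] [Algebra A B]
  [IsLocalHom (algebraMap A B)]

variable (B) in
theorem subsingleton_of_baseChange {C : Type u} [AddCommGroup C] [Module A C] [Module.Finite A C]
    (h : Subsingleton (B ⊗[A] C)) : Subsingleton C := by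
  let q : B →ₗ[A] ResidueField B := (Algebra.linearMap B (ResidueField B)).restrictScalars A
  have hq : Function.Surjective q := IsLocalRing.residue_surjective
  have h1 : Subsingleton (ResidueField B ⊗[A] C) := (LinearMap.rTensor_surjective C hq).subsingleton
  have h2 : Subsingleton (ResidueField B ⊗[ResidueField A] (ResidueField A ⊗[A] C)) :=
    (AlgebraTensorModule.cancelBaseChange A (ResidueField A) (ResidueField B) (ResidueField B) C).toEquiv.subsingleton
  have h3 : Subsingleton (ResidueField A ⊗[A] C) :=
    (Module.FaithfullyFlat.subsingleton_tensorProduct_iff_right (ResidueField A) (ResidueField B)).1 h2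
  exact IsLocalRing.subsingleton_tensorProduct.1 h3

/-- Bijectivity onto a projective module may be tested after a local base change. -/
theorem bijective_of_baseChange {M N : Type u} [AddCommGroup M] [Module A M] [Module.Finite A M] [AddCommGroup N]
    [Module A N] [Module.Finite A N] [Module.Projective A N] (f : M →ₗ[A] N)
    (h : Function.Bijective (f.baseChange B)) : Function.Bijective f := by
  have hs : Function.Surjective f := by
    rw [← LinearMap.range_eq_top, ← Submodule.Quotient.subsingleton_iff]
    refine subsingleton_of_baseChange (A := A) B ⟨fun x y => ?_⟩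
    have key : ∀ x : B ⊗[A] (N ⧸ LinearMap.range f), x = 0 := by
      intro x
      obtain ⟨y, rfl⟩ := LinearMap.lTensor_surjective B (Submodule.mkQ_surjective (LinearMap.range f)) x
      obtain ⟨z, rfl⟩ := h.2 y
      change (LinearMap.range f).mkQ.lTensor B (f.lTensor B z) = 0
      rw [← LinearMap.comp_apply, ← LinearMap.lTensor_comp]
      have : (LinearMap.range f).mkQ ∘ₗ f = 0 := by
        ext m
        simp
      rw [this, LinearMap.lTensor_zero, LinearMap.zero_apply]
    rw [key x, key y]
  obtain ⟨g, hg⟩ := Module.projective_lifting_property f LinearMap.id hs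
  refine ⟨?_, hs⟩
  rw [← LinearMap.ker_eq_bot, ← Submodule.subsingleton_iff_eq_bot]
  let ρ : M →ₗ[A] LinearMap.ker f := (LinearMap.id - g ∘ₗ f).codRestrict _ (fun m => by
    have := LinearMap.congr_fun hg (f m)
    simp only [LinearMap.comp_apply, LinearMap.id_apply] at this
    rw [LinearMap.mem_ker, LinearMap.sub_apply, map_sub, LinearMap.comp_apply, this]
    simp)
  have hρ : ρ ∘ₗ (LinearMap.ker f).subtype = LinearMap.id := by
    ext ⟨m, hm⟩
    rw [LinearMap.mem_ker] at hm
    simp [ρ, hm]
  have hρs : Function.Surjective ρ := fun m => ⟨m, LinearMap.congr_fun hρ m⟩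
  have : Module.Finite A (LinearMap.ker f) := Module.Finite.of_surjective ρ hρs
  refine subsingleton_of_baseChange (A := A) B ⟨fun x y => ?_⟩
  have key : ∀ x : B ⊗[A] LinearMap.ker f, x = 0 := by
    intro x
    have h1 : (LinearMap.ker f).subtype.lTensor B x = 0 := by
      apply h.1
      change f.lTensor B ((LinearMap.ker f).subtype.lTensor B x) = f.lTensor B 0
      rw [← LinearMap.comp_apply, ← LinearMap.lTensor_comp]
      have : f ∘ₗ (LinearMap.ker f).subtype = 0 := by
        ext ⟨m, hm⟩
        exact hm
      rw [this, LinearMap.lTensor_zero, LinearMap.zero_apply, map_zero]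
    have h2 := congrArg (ρ.lTensor B) h1
    rw [← LinearMap.comp_apply, ← LinearMap.lTensor_comp, hρ, LinearMap.lTensor_id, map_zero] at h2
    exact h2
  rw [key x, key y]

end K311.LocAlg
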