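import Groth.Agent.BunMod.K311.PushFree
import Groth.Agent.FormalB.PullCoh

/-!
# Bases of sections of families with vanishing `H¹`

`p : Y ⟶ S` proper, locally of finite presentation, `G` finitely presented and flat over `S`, `H¹ = 0` on all
geometric fibres.

* `isBas_pull`: a basis of `p_* G` over `U` pulls back to a basis of `q_* f^* G` over `U' ≤ g⁻¹ U`.
* `exists_near`: global sections which are a basis at a geometric point are a basis near this point.
* `exists_local`: near a geometric point where `h⁰ = n` there is a basis of `n` sections.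
* `isBas_of_geom`: global sections which are a basis at all geometric points are a basis.
-/

set_option autoImplicit false
universe u

open AlgebraicGeometry CategoryTheory CategoryTheory.Limits Scheme.Modules TensorProduct

namespace K311.PushFree

open Groth.Agent Groth.Agent.CohqA.PullbackUniv Groth.Agent.CohqA.PullbackAffine
  Groth.Agent.CohqA.PullbackSections Groth.Agent.CohqA.AffineBaseChange
  Groth.Agent.CohqA.BaseChangeMod Groth.Agent.CohqA.PullbackQCoh Groth.Agent.Ega3B K55 K55.Pack K55.KerAlg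
  K54.PushSec K54.PushBC
open Groth.Agent.Ega2.BasSec Groth.Agent.Fdesc Groth.Agent.Fdesc.LocGen

section Gen

variable {X : Scheme.{u}} {M : X.Modules} {U : X.Opens} {n : ℕ}

theorem exists_basis_of_comb {e : Fin n → Γ(M, U)} (h : Function.Bijective (comb e)) :
    ∃ b : Module.Basis (Fin n) Γ(X, U) Γ(M, U), ∀ i, b i = e i := by
  let L : (Fin n → Γ(X, U)) →ₗ[Γ(X, U)] Γ(M, U) := Fintype.linearCombination Γ(X, U) e
  have hL : Function.Bijective L := h
  refine ⟨Module.Basis.ofEquivFun (LinearEquiv.ofBijective L hL).symm, fun i => ?_⟩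
  rw [Module.Basis.coe_ofEquivFun, LinearEquiv.symm_symm]
  change (Fintype.linearCombination Γ(X, U) e) (Pi.single i 1) = _
  rw [Fintype.linearCombination_apply_single, one_smul]

theorem bijective_comb_of_basis {e : Fin n → Γ(M, U)} (b : Module.Basis (Fin n) Γ(X, U) Γ(M, U))
    (h : ∀ i, b i = e i) : Function.Bijective (comb e) := by
  have h1 : comb e = b.equivFun.symm := by
    funext a
    rw [Module.Basis.equivFun_symm_apply]
    exact Finset.sum_congr rfl fun i _ => by rw [h]
  rw [h1]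
  exact b.equivFun.symm.bijective

/-- Two bases differ by an invertible matrix. -/
theorem isUnit_det_of_bases {A N : Type u} [CommRing A] [AddCommGroup N] [Module A N] {n : ℕ}
    (b b' : Module.Basis (Fin n) A N) (P : Matrix (Fin n) (Fin n) A) (h : ∀ i, b' i = ∑ j, P i j • b j) :
    IsUnit P.det := by
  have h1 : b.toMatrix b' = P.transpose := by
    ext i j
    rw [Module.Basis.toMatrix_apply, h, map_sum, Finset.sum_apply', Matrix.transpose_apply,
      Finset.sum_eq_single i]
    · simp
    · intro l _ hl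
      simp [Finsupp.single_eq_of_ne hl.symm]
    · intro hi
      exact (hi (Finset.mem_univ _)).elim
  have h2 : IsUnit (b.det b') := b.isUnit_det b'
  rw [Module.Basis.det_apply, h1, Matrix.det_transpose] at h2
  exact h2

end Gen

variable {Y S : Scheme.{u}} {p : Y ⟶ S} {G : Y.Modules}

/-- Restriction of base change maps. -/
theorem res_secMap {X X' : Scheme.{u}} (g : X' ⟶ X) {M : X.Modules} {N : X'.Modules}
    (a : M ⟶ (pushforward g).obj N) {U V : X.Opens} {U' V' : X'.Opens} (e : U' ≤ g ⁻¹ᵁ U) (e' : V' ≤ g ⁻¹ᵁ V)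
    (h : V ≤ U) (h' : V' ≤ U') (x : Γ(M, U)) :
    LocGen.res N h' (secMap g a U U' e x) = secMap g a V V' e' (LocGen.res M h x) := by
  have h1 : a.app V (LocGen.res M h x) = LocGen.res N (g.preimage_mono h) (a.app U x) := app_res a h x
  change LocGen.res N h' (LocGen.res N e (a.app U x)) = LocGen.res N e' (a.app V (LocGen.res M h x))
  rw [h1, res_res, res_res]

variable [IsProper p] [LocallyOfFinitePresentation p] (hfp : CohB1.IsFP G)
  (hfl : FlatMod.IsFlatOver p G) (h1 : GeomH1 p G)

include hfp in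
omit [LocallyOfFinitePresentation p] in
theorem isQCoh_pull_push {Y' S' : Scheme.{u}} {f : Y' ⟶ Y} {q : Y' ⟶ S'} {g : S' ⟶ S} (H : IsPullback f q p g) :
    Coh.IsQCoh ((pushforward q).obj ((Scheme.Modules.pullback f).obj G)) := by
  have : IsProper q := MorphismProperty.of_isPullback H inferInstance
  exact Ega1.QcqsPush.isQCoh_pushforward q _
    (FormalB.PullCoh.isQuasicoherent_pullback f G (isQCoh_of_fp hfp))

include hfp hfl h1 in
/-- **Bases pull back to bases.** -/
theorem isBas_pull {Y' S' : Scheme.{u}} {f : Y' ⟶ Y} {q : Y' ⟶ S'} {g : S' ⟶ S} (H : IsPullback f q p g)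
    {n : ℕ} {U : S.Opens} {U' : S'.Opens} (e : U' ≤ g ⁻¹ᵁ U) {s : Fin n → Γ((pushforward p).obj G, U)}
    (hs : IsBas s) :
    IsBas (M := (pushforward q).obj ((Scheme.Modules.pullback f).obj G)) (U := U')
      (fun i => secMap g (pushSquare p g f q H.w (pbUnit f G)) U U' e (s i)) := by
  have hq := isQCoh_pull_push hfp H
  have key : ∀ x : U', ∃ (V : S.Opens) (V' : S'.Opens), IsAffineOpen V ∧ IsAffineOpen V' ∧ V ≤ U ∧
      V' ≤ U' ∧ x.1 ∈ V' ∧ V' ≤ g ⁻¹ᵁ V := by
    intro x
    obtain ⟨V, hV, hxV, hVU⟩ := exists_isAffineOpen_mem_and_subset (X := S) (x := g x.1) (U := U) (e x.2)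
    obtain ⟨V', hV', hxV', hVU'⟩ := exists_isAffineOpen_mem_and_subset (X := S') (x := x.1)
      (U := U' ⊓ g ⁻¹ᵁ V) ⟨x.2, hxV⟩
    exact ⟨V, V', hV, hV', hVU, hVU'.trans inf_le_left, hxV', hVU'.trans inf_le_right⟩
  choose V V' hV hV' hVU hVU' hx hVV using key
  refine IsBas.of_cover V' hVU' (fun y hy => TopologicalSpace.Opens.mem_iSup.2 ⟨⟨y, hy⟩, hx _⟩) fun x => ?_
  obtain ⟨b, hb⟩ := exists_basis_of_comb (hs (V x) (hVU x))
  obtain ⟨b', hb'⟩ := exists_basis_of_isBC (isBC_sections hfp hfl h1 H (hV x) (hV' x) (hVV x)) b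
  refine isBas_of_bijective hq (hV' x) (bijective_comb_of_basis b' fun i => ?_)
  rw [hb', hb, res_secMap g _ e (hVV x) (hVU x) (hVU' x)]

section Point

variable {Ω : Type u} [Field Ω] (t : Spec (CommRingCat.of Ω) ⟶ S) {Y' : Scheme.{u}} {f : Y' ⟶ Y}
  {q : Y' ⟶ Spec (CommRingCat.of Ω)} (H : IsPullback f q p t)

include hfp hfl h1 H in
/-- Near a geometric point where `h⁰ = n` there is a basis of `n` sections. -/
theorem exists_local {n : ℕ} {s' : Fin n → Γ((pushforward q).obj ((Scheme.Modules.pullback f).obj G), ⊤)}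
    (hb : Function.Bijective (comb s')) (x : Spec (CommRingCat.of Ω)) :
    ∃ (V : S.Opens) (w : Fin n → Γ((pushforward p).obj G, V)), IsAffineOpen V ∧ t x ∈ V ∧ IsBas w := by
  obtain ⟨W, m, hxW, hW⟩ := isFinLocFree_push hfp hfl h1 (t x)
  obtain ⟨w, hw⟩ := (nonempty_restrict_iso_freeMod_iff _ m W).1 hW
  obtain ⟨V, hV, hxV, hVW⟩ := exists_isAffineOpen_mem_and_subset (X := S) (x := t x) (U := W) hxW
  have hbV := hw.res hVW
  have e : (⊤ : (Spec (CommRingCat.of Ω)).Opens) ≤ t ⁻¹ᵁ V := by
    intro y _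
    rw [Subsingleton.elim y x]
    exact hxV
  have h2 := (isBas_pull hfp hfl h1 H e hbV).bijective
  obtain ⟨b1, -⟩ := exists_basis_of_comb h2
  obtain ⟨b2, -⟩ := exists_basis_of_comb hb
  have : Nontrivial Γ(Spec (CommRingCat.of Ω), ⊤) :=
    (Scheme.ΓSpecIso (CommRingCat.of Ω)).commRingCatIsoToRingEquiv.toEquiv.nontrivial
  have hmn : m = n := by simpa using Fintype.card_congr (b1.indexEquiv b2)
  subst hmn
  exact ⟨V, _, hV, hxV, hbV⟩

include hfp hfl h1 in
/-- Global sections which are a basis at a geometric point are a basis near this point. -/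
theorem exists_near {n : ℕ} {s : Fin n → Γ((pushforward p).obj G, ⊤)}
    (hb : Function.Bijective (comb (M := (pushforward q).obj ((Scheme.Modules.pullback f).obj G)) (V := ⊤)
      (fun i => secMap t (pushSquare p t f q H.w (pbUnit f G)) ⊤ ⊤ le_top (s i)))) (x : Spec (CommRingCat.of Ω)) :
    ∃ V : S.Opens, t x ∈ V ∧ IsBas (fun i => LocGen.res ((pushforward p).obj G) (le_top : V ≤ ⊤) (s i)) := by
  obtain ⟨V, w, hV, hxV, hw⟩ := exists_local hfp hfl h1 t H hb x
  have hPs : ∀ i, ∃ a : Fin n → Γ(S, V), LocGen.res ((pushforward p).obj G) (le_top : V ≤ ⊤) (s i) =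
      ∑ j, a j • w j := fun i => by
    obtain ⟨a, ha⟩ := hw.bijective.2 (LocGen.res ((pushforward p).obj G) (le_top : V ≤ ⊤) (s i))
    exact ⟨a, ha.symm⟩
  choose P hP using hPs
  have e : (⊤ : (Spec (CommRingCat.of Ω)).Opens) ≤ t ⁻¹ᵁ V := by
    intro y _
    rw [Subsingleton.elim y x]
    exact hxV
  let a := pushSquare p t f q H.w (pbUnit f G)
  have h2 := (isBas_pull hfp hfl h1 H e hw).bijective
  obtain ⟨b1, hb1⟩ := exists_basis_of_comb h2
  obtain ⟨b2, hb2⟩ := exists_basis_of_comb hb
  have h3 : IsUnit ((Matrix.of P).map (t.appLE V ⊤ e).hom).det := by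
    refine isUnit_det_of_bases b1 b2 _ fun i => ?_
    rw [hb2]
    have h4 : secMap t a ⊤ ⊤ le_top (s i) = secMap t a V ⊤ e (LocGen.res _ (le_top : V ≤ ⊤) (s i)) := by
      rw [← res_secMap t a le_top e le_top le_rfl, LocGen.res_refl]
    refine h4.trans ?_
    rw [hP i, map_sum]
    refine Finset.sum_congr rfl fun j _ => ?_
    rw [hb1]
    exact secMap_smul t a V ⊤ e (P i j) (w j)
  have h4 : IsUnit ((t.appLE V ⊤ e) (Matrix.of P).det) :=
    (congrArg IsUnit (RingHom.map_det (t.appLE V ⊤ e).hom (Matrix.of P))).mpr h3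
  have h5 : t x ∈ S.basicOpen (Matrix.of P).det := by
    have h6 : x ∈ (Spec (CommRingCat.of Ω)).basicOpen ((t.appLE V ⊤ e) (Matrix.of P).det) := by
      rw [Scheme.basicOpen_of_isUnit _ h4]
      trivial
    have h7 : (Spec (CommRingCat.of Ω)).basicOpen ((t.appLE V ⊤ e) (Matrix.of P).det) ≤
        t ⁻¹ᵁ S.basicOpen (Matrix.of P).det := by
      rw [Scheme.Hom.preimage_basicOpen, Scheme.Hom.appLE]
      change (Spec (CommRingCat.of Ω)).basicOpen
        ((Spec (CommRingCat.of Ω)).presheaf.map (homOfLE e).op (t.app V (Matrix.of P).det)) ≤ _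
      rw [Scheme.basicOpen_res]
      exact inf_le_right
    exact h7 h6
  refine ⟨S.basicOpen (Matrix.of P).det, h5, ?_⟩
  have hD : S.basicOpen (Matrix.of P).det ≤ V := S.basicOpen_le _
  refine isBas_of_det (hw.res hD) ((Matrix.of P).map (ores hD)) (fun i => ?_) ?_
  · have h6 := congrArg (LocGen.res ((pushforward p).obj G) hD) (hP i)
    rw [LocGen.res_res, map_sum] at h6
    rw [h6]
    refine Finset.sum_congr rfl fun j _ => ?_
    exact res_smul _ hD _ _
  · exact (congrArg IsUnit (RingHom.map_det (ores hD) (Matrix.of P))).mp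
      (RingedSpace.isUnit_res_basicOpen _ _)

end Point

include hfp hfl h1 in
/-- Global sections which are a basis at all geometric points are a basis. -/
theorem isBas_of_geom {n : ℕ} {s : Fin n → Γ((pushforward p).obj G, ⊤)}
    (h : ∀ (Ω : Type u) [Field Ω] [IsAlgClosed Ω] (t : Spec (CommRingCat.of Ω) ⟶ S),
      ∃ (Y' : Scheme.{u}) (f : Y' ⟶ Y) (q : Y' ⟶ Spec (CommRingCat.of Ω)) (H : IsPullback f q p t),
      Function.Bijective (comb (M := (pushforward q).obj ((Scheme.Modules.pullback f).obj G)) (V := ⊤)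
        (fun i => secMap t (pushSquare p t f q H.w (pbUnit f G)) ⊤ ⊤ le_top (s i)))) : IsBas s := by
  have key : ∀ x : S, ∃ V : S.Opens, x ∈ V ∧
      IsBas (fun i => LocGen.res ((pushforward p).obj G) (le_top : V ≤ ⊤) (s i)) := by
    intro x
    let Ω := AlgebraicClosure (S.residueField x)
    let t : Spec (CommRingCat.of Ω) ⟶ S :=
      Spec.map (CommRingCat.ofHom (algebraMap (S.residueField x) Ω)) ≫ S.fromSpecResidueField x
    obtain ⟨Y', f, q, H, hb⟩ := h Ω t
    obtain ⟨V, hV, hV'⟩ := exists_near hfp hfl h1 t H hb (default : PrimeSpectrum Ω)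
    refine ⟨V, ?_, hV'⟩
    have h2 : t (default : PrimeSpectrum Ω) = x := by
      change S.fromSpecResidueField x _ = x
      exact S.fromSpecResidueField_apply x _
    rwa [h2] at hV
  choose V hx hV using key
  exact IsBas.of_cover V (fun _ => le_top) (fun y _ => TopologicalSpace.Opens.mem_iSup.2 ⟨y, hx y⟩) hV

end K311.PushFree
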