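import Groth.Agent.Coherent.K54.PushH1
import Groth.Agent.Ega2.BasSec

/-!
# Families with vanishing `H¹` of the geometric fibres

`p : Y ⟶ S` proper, locally of finite presentation, `G` finitely presented and flat over `S`, with
`H¹ = 0` on all geometric fibres (`GeomH1 p G`).

* `projective_O`: the linear algebra data over an affine open has `K.O 1` projective;
* `isBC_sections`: sections commute with every base change (affine opens);
* `isFinLocFree_push`: `p_* G` is finite locally free.
-/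

set_option autoImplicit false
universe u

open AlgebraicGeometry CategoryTheory CategoryTheory.Limits Scheme.Modules TensorProduct

namespace K311.PushFree

open Groth.Agent Groth.Agent.CohqA.PullbackUniv Groth.Agent.CohqA.PullbackAffine
  Groth.Agent.CohqA.PullbackSections Groth.Agent.CohqA.AffineBaseChange
  Groth.Agent.CohqA.BaseChangeMod Groth.Agent.CohqA.PullbackQCoh Groth.Agent.Ega3B K55 K55.Pack K55.KerAlg
  K54.PushSec K54.PushBC

variable {Y S : Scheme.{u}}

/-- `H¹` of `G` vanishes on all geometric fibres of `p`. -/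
def GeomH1 (p : Y ⟶ S) (G : Y.Modules) : Prop :=
  ∀ (Ω : Type u) [Field Ω] [IsAlgClosed Ω] (t : Spec (CommRingCat.of Ω) ⟶ S) {Y' : Scheme.{u}} (f : Y' ⟶ Y)
    (q : Y' ⟶ Spec (CommRingCat.of Ω)), IsPullback f q p t →
      Subsingleton (Coh.HH Y' ((Scheme.Modules.pullback f).obj G) 1)

theorem subsingleton_HH_of_iso {X : Scheme.{u}} {M N : X.Modules} (e : M ≅ N) {n : ℕ}
    (h : Subsingleton (Coh.HH X M n)) : Subsingleton (Coh.HH X N n) := by
  obtain ⟨e', -⟩ := FibreResid.exists_equiv_HH e n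
  exact e'.symm.toEquiv.subsingleton

theorem GeomH1.of_iso {p : Y ⟶ S} {G G' : Y.Modules} (h : GeomH1 p G) (e : G ≅ G') : GeomH1 p G' :=
  fun Ω _ _ t _ f q H => subsingleton_HH_of_iso ((Scheme.Modules.pullback f).mapIso e) (h Ω t f q H)

theorem GeomH1.baseChange {p : Y ⟶ S} {G : Y.Modules} (h : GeomH1 p G) {Y' S' : Scheme.{u}} {f : Y' ⟶ Y}
    {q : Y' ⟶ S'} {g : S' ⟶ S} (H : IsPullback f q p g) :
    GeomH1 q ((Scheme.Modules.pullback f).obj G) := fun Ω _ _ t _ f' q' H' =>
  subsingleton_HH_of_iso ((Scheme.Modules.pullbackComp f' f).symm.app G)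
    (h Ω (t ≫ g) (f' ≫ f) q' (H'.paste_horiz H))

/-- Vanishing of a kernel may be tested over a field extension. -/
theorem subsingleton_ker_of_tower {A : Type u} [CommRing A] {O Q : Type u} [AddCommGroup O] [Module A O]
    [AddCommGroup Q] [Module A Q] (v : O →ₗ[A] Q) (κ Ω : Type u) [Field κ] [Field Ω] [Algebra A κ] [Algebra A Ω]
    [Algebra κ Ω] [IsScalarTower A κ Ω] (h : Subsingleton (LinearMap.ker (v.baseChange Ω))) :
    Subsingleton (LinearMap.ker (v.baseChange κ)) := by
  obtain ⟨r, hr⟩ := (Algebra.linearMap κ Ω).exists_leftInverse_of_injective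
    (LinearMap.ker_eq_bot.2 (algebraMap κ Ω).injective)
  let i : κ →ₗ[A] Ω := (Algebra.linearMap κ Ω).restrictScalars A
  let r' : Ω →ₗ[A] κ := r.restrictScalars A
  have hri : r' ∘ₗ i = LinearMap.id := LinearMap.ext fun x => congr($hr x)
  refine ⟨fun a b => ?_⟩
  have key : ∀ x : LinearMap.ker (v.baseChange κ), (x : κ ⊗[A] O) = 0 := by
    intro x
    have h1 : i.rTensor O (x : κ ⊗[A] O) ∈ LinearMap.ker (v.baseChange Ω) := by
      rw [LinearMap.mem_ker]
      change v.lTensor Ω (i.rTensor O (x : κ ⊗[A] O)) = 0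
      rw [← LinearMap.comp_apply, LinearMap.lTensor_comp_rTensor, ← LinearMap.rTensor_comp_lTensor,
        LinearMap.comp_apply]
      have h2 : v.lTensor κ (x : κ ⊗[A] O) = 0 := x.2
      rw [h2, map_zero]
    have h3 : i.rTensor O (x : κ ⊗[A] O) = 0 := congrArg Subtype.val (Subsingleton.elim (⟨_, h1⟩ :
      LinearMap.ker (v.baseChange Ω)) 0)
    have h4 := congrArg (r'.rTensor O) h3
    rw [← LinearMap.comp_apply, ← LinearMap.rTensor_comp, hri, LinearMap.rTensor_id, map_zero] at h4
    exact h4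
  exact Subtype.ext ((key a).trans (key b).symm)

/-- `H¹` of the linear algebra data vanishes at all primes. -/
theorem subsingleton_HB {p : Y ⟶ S} {G : Y.Modules} (h1 : GeomH1 p G) {V : S.Opens} (hV : IsAffineOpen V)
    (K : CxData Γ(S, V)) (hK : CompData p G hV K) (x : PrimeSpectrum Γ(S, V)) :
    Subsingleton (K.HB 1 x.asIdeal.ResidueField) := by
  let iO : (p ⁻¹ᵁ V).toScheme.Over (Spec (CommRingCat.of Γ(S, V))) := ⟨PackageAsm.strMap p hV⟩
  let Ω := AlgebraicClosure x.asIdeal.ResidueField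
  obtain ⟨θ₀, hθ⟩ := hK 1
  let Hp := IsPullback.of_hasPullback (PackageAsm.strMap p hV)
    (Spec.map (CommRingCat.ofHom (algebraMap Γ(S, V) Ω)))
  obtain ⟨θ, -, -⟩ := hθ.bc Ω _ _ _ Hp
  have h2 := h1 Ω (Spec.map (CommRingCat.ofHom (algebraMap Γ(S, V) Ω)) ≫ hV.fromSpec) _ _
    (Hp.paste_horiz (EtPoint.isPullback_fromSpec p hV))
  have h3 := subsingleton_HH_of_iso ((Scheme.Modules.pullbackComp _ _).symm.app G ≪≫
    (Scheme.Modules.pullback _).mapIso ((Scheme.Modules.restrictFunctorIsoPullback (p ⁻¹ᵁ V).ι).symm.app G)) h2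
  have h4 : Subsingleton (K.HB 1 Ω) := θ.symm.toEquiv.subsingleton
  exact subsingleton_ker_of_tower (K.u 1) _ Ω h4

theorem projective_O {p : Y ⟶ S} {G : Y.Modules} (h1 : GeomH1 p G) {V : S.Opens} (hV : IsAffineOpen V)
    (K : CxData Γ(S, V)) (hK : CompData p G hV K) : Module.Projective Γ(S, V) (K.O 1) := by
  rw [← Module.freeLocus_eq_univ_iff]
  exact Set.eq_univ_iff_forall.2 fun x =>
    (of_subsingleton_ker (K.exact 1) (K.surj 1) x (subsingleton_HB h1 hV K hK x)).2.1

variable {p : Y ⟶ S} [IsProper p] [LocallyOfFinitePresentation p] {G : Y.Modules} (hfp : CohB1.IsFP G)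
  (hfl : FlatMod.IsFlatOver p G) (h1 : GeomH1 p G)

include hfp hfl h1 in
/-- Sections commute with every base change. -/
theorem isBC_sections {Y' S' : Scheme.{u}} {f : Y' ⟶ Y} {q : Y' ⟶ S'} {g : S' ⟶ S} (H : IsPullback f q p g)
    {V : S.Opens} (hV : IsAffineOpen V) {V' : S'.Opens} (hV' : IsAffineOpen V') (e : V' ≤ g ⁻¹ᵁ V) :
    IsBC (g.appLE V V' e).hom (secMap g (pushSquare p g f q H.w (pbUnit f G)) V V' e).hom := by
  obtain ⟨K, hK⟩ := exists_compData p G hfp hfl hV
  obtain ⟨t₀, ht⟩ := secData p G hV K hK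
  have ht' := ht f q g H V' hV' e
  have i1 := projective_O h1 hV K hK
  refine isBC_of_res' (g.appLE V V' e).hom K _ t₀ ht' ?_
  let := (g.appLE V V' e).hom.toAlgebra
  have i2 : Module.Projective Γ(S, V) (K.O (0 + 1)) := i1
  exact isBaseChange_kres_of_flat Γ(S', V') (K.exact 0) (K.surj 0)

include hfp hfl h1 in
theorem finite_projective_sections {V : S.Opens} (hV : IsAffineOpen V) :
    Module.Finite Γ(S, V) Γ((pushforward p).obj G, V) ∧
      Module.Projective Γ(S, V) Γ((pushforward p).obj G, V) := by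
  obtain ⟨K, hK⟩ := exists_compData p G hfp hfl hV
  obtain ⟨t₀, -⟩ := secData p G hV K hK
  have i1 := projective_O h1 hV K hK
  have i2 : Module.Projective Γ(S, V) (K.O (0 + 1)) := i1
  have h3 : Module.Finite Γ(S, V) (K.H 0) := finite_ker (K.exact 0) (K.surj 0)
  have h4 : Module.Projective Γ(S, V) (K.H 0) := (projective_ker_iff (K.exact 0) (K.surj 0)).2 K.projO
  exact ⟨Module.Finite.equiv t₀.symm, Module.Projective.of_equiv t₀.symm⟩

theorem isQCoh_of_fp {X : Scheme.{u}} {F : X.Modules} (hF : CohB1.IsFP F) : Coh.IsQCoh F :=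
  Models2.FPCoh.isQCoh_of_isFP hF

include hfp in
omit [LocallyOfFinitePresentation p] in
theorem isQCoh_push : Coh.IsQCoh ((pushforward p).obj G) :=
  Ega1.QcqsPush.isQCoh_pushforward p G (isQCoh_of_fp hfp)

include hfp hfl h1 in
theorem isFinLocFree_push : FlatMod.IsFinLocFree ((pushforward p).obj G) :=
  CurvesB.NodalRpush.isFinLocFree_of_sections _ (isQCoh_push hfp) fun _ hV =>
    finite_projective_sections hfp hfl h1 hV


section Basis

open Groth.Agent.Ega2.BasSec Groth.Agent.Fdesc Groth.Agent.Fdesc.LocGen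

/-- Bases are preserved by base change. -/
theorem exists_basis_of_isBC {A B : Type u} [CommRing A] [CommRing B] {φ : A →+* B} {M N : Type u}
    [AddCommGroup M] [Module A M] [AddCommGroup N] [Module B N] {f : M →+ N} (h : IsBC φ f) {n : ℕ}
    (b : Module.Basis (Fin n) A M) : ∃ b' : Module.Basis (Fin n) B N, ∀ i, b' i = f (b i) := by
  let := φ.toAlgebra
  have h' : IsBC φ (TensorProduct.mk A B M 1).toAddMonoidHom :=
    (isBC_iff_isBaseChange (TensorProduct.mk A B M 1)).2 (TensorProduct.isBaseChange A M B)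
  obtain ⟨e, he⟩ := h.exists_equiv h'
  refine ⟨(b.baseChange B).map e.symm, fun i => ?_⟩
  rw [Module.Basis.map_apply, LinearEquiv.symm_apply_eq, he, Module.Basis.baseChange_apply]
  rfl

/-- A family obtained from a basis by an invertible matrix is a basis. -/
theorem isBas_of_det {X : Scheme.{u}} {M : X.Modules} {U : X.Opens} {n : ℕ} {w e : Fin n → Γ(M, U)}
    (hw : IsBas w) (P : Matrix (Fin n) (Fin n) Γ(X, U)) (hP : ∀ i, e i = ∑ j, P i j • w j)
    (hu : IsUnit P.det) : IsBas e := by
  intro W hW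
  have h1 : ∀ a, comb (fun i => res M hW (e i)) a =
      comb (fun i => res M hW (w i)) (Matrix.vecMul a (P.map (ores hW))) := by
    intro a
    simp only [comb, hP, map_sum, Finset.smul_sum]
    rw [Finset.sum_comm]
    refine Finset.sum_congr rfl fun j _ => ?_
    rw [Matrix.vecMul, dotProduct, Finset.sum_smul]
    refine Finset.sum_congr rfl fun i _ => ?_
    rw [Matrix.map_apply, mul_smul]
    congr 1
    exact res_smul M hW _ _
  have h2 : IsUnit (P.map (ores hW)) := by
    rw [Matrix.isUnit_iff_isUnit_det]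
    have h3 := hu.map (X.presheaf.map (homOfLE hW).op).hom
    rw [RingHom.map_det] at h3
    exact h3
  have h4 : Function.Bijective fun a : Fin n → Γ(X, W) => Matrix.vecMul a (P.map (ores hW)) := by
    obtain ⟨v, hv⟩ := h2
    rw [← hv]
    refine Function.bijective_iff_has_inverse.2 ⟨fun a => Matrix.vecMul a (↑v⁻¹ : Matrix _ _ _), fun a => ?_,
      fun a => ?_⟩
    · simp [Matrix.vecMul_vecMul]
    · simp [Matrix.vecMul_vecMul]
  have h5 := (hw W hW).comp h4
  have h6 : comb (fun i => res M hW (e i)) = comb (fun i => res M hW (w i)) ∘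
    fun a => Matrix.vecMul a (P.map (ores hW)) := funext h1
  rw [h6]
  exact h5

end Basis

end K311.PushFree
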