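import Groth.Agent.BunMod.K311.KE
import Groth.Agent.BunMod.K311.PushFree
import Groth.Agent.Coherent.K45.HomLift

/-!
# Bases of `Hom(A, F)` over the base

`SB p e`: the tuple `e : Fin n → (A ⟶ F)` of homomorphisms on `Y` is a basis of `Hom(A, F)` over `Γ(S, ⊤)`, `p : Y ⟶ S`.
`SBOn p U e`: the same after every base change `S' ⟶ S` with values in `U`.
-/

set_option autoImplicit false
universe u

open CategoryTheory CategoryTheory.Limits AlgebraicGeometry

namespace K311.Bas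

open Groth.Agent.LoccohB.HHmap Groth.Agent.LoccohB.SectLin303 K311.KE

variable {Y S : Scheme.{u}}

/-- `e` is a basis of `Hom(A, F)` over `Γ(S, ⊤)`. -/
def SB (p : Y ⟶ S) {n : ℕ} {A F : Y.Modules} (e : Fin n → (A ⟶ F)) : Prop :=
  Function.Bijective fun c : Fin n → Γ(S, ⊤) => ∑ i, p.appTop (c i) • e i

theorem homBasis_iff {κ : Type u} [Field κ] (q : Y ⟶ Spec (CommRingCat.of κ)) {n : ℕ} {A F : Y.Modules}
    (e : Fin n → (A ⟶ F)) : K140.BM.HomBasis q e ↔ SB q e := by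
  let σ : κ ≃+* Γ(Spec (CommRingCat.of κ), ⊤) := (Scheme.ΓSpecIso (CommRingCat.of κ)).symm.commRingCatIsoToRingEquiv
  have h1 : K140.BM.HomBasis q e ↔ Function.Bijective fun c : Fin n → κ => ∑ i, q.appTop (σ (c i)) • e i := by
    rw [Function.bijective_iff_existsUnique]
    refine forall_congr' fun x => ?_
    refine existsUnique_congr fun c => ?_
    exact eq_comm
  rw [h1]
  let τ : (Fin n → κ) ≃ (Fin n → Γ(Spec (CommRingCat.of κ), ⊤)) := Equiv.arrowCongr (Equiv.refl _) σ.toEquiv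
  exact (Function.Bijective.of_comp_iff (fun c : Fin n → Γ(Spec (CommRingCat.of κ), ⊤) => ∑ i, q.appTop (c i) • e i)
    τ.bijective)

/-- Transport of bases. -/
theorem sb_iff_of_bij {Y' S' : Scheme.{u}} (p : Y ⟶ S) (p' : Y' ⟶ S') {n : ℕ} {A F : Y.Modules} {A' F' : Y'.Modules}
    (σ : Γ(S, ⊤) → Γ(S', ⊤)) (hσ : Function.Bijective σ) (Φ : (A ⟶ F) →+ (A' ⟶ F')) (hΦ : Function.Bijective Φ)
    (hs : ∀ (c : Γ(S, ⊤)) (φ : A ⟶ F), Φ (p.appTop c • φ) = p'.appTop (σ c) • Φ φ) {e : Fin n → (A ⟶ F)}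
    {e' : Fin n → (A' ⟶ F')} (he : ∀ i, e' i = Φ (e i)) : SB p e ↔ SB p' e' := by
  have h1 : (fun c : Fin n → Γ(S', ⊤) => ∑ i, p'.appTop (c i) • e' i) ∘ (fun c : Fin n → Γ(S, ⊤) => σ ∘ c) =
      Φ ∘ fun c : Fin n → Γ(S, ⊤) => ∑ i, p.appTop (c i) • e i := by
    funext c
    simp only [Function.comp_apply, _root_.map_sum, hs, he]
  have h2 : Function.Bijective (fun c : Fin n → Γ(S, ⊤) => σ ∘ c) :=
    (Equiv.arrowCongr (Equiv.refl (Fin n)) (Equiv.ofBijective σ hσ)).bijective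
  unfold SB
  rw [← Function.Bijective.of_comp_iff _ h2, h1]
  exact (Function.Bijective.of_comp_iff' hΦ _).symm

/-- Change of the modules by isomorphisms. -/
theorem SB.iso_iff (p : Y ⟶ S) {n : ℕ} {A F A' F' : Y.Modules} (i : A' ≅ A) (j : F ≅ F') {e : Fin n → (A ⟶ F)} :
    SB p e ↔ SB p (fun l => i.hom ≫ e l ≫ j.hom) := by
  refine sb_iff_of_bij p p id Function.bijective_id
    { toFun := fun φ => i.hom ≫ φ ≫ j.hom, map_zero' := by simp, map_add' := fun x y => by simp } ?_ ?_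
    (fun _ => rfl)
  · refine Function.bijective_iff_has_inverse.2 ⟨fun ψ => i.inv ≫ ψ ≫ j.inv, fun φ => ?_, fun ψ => ?_⟩
    · simp
    · simp
  · intro c φ
    change i.hom ≫ (p.appTop c • φ) ≫ j.hom = p.appTop c • (i.hom ≫ φ ≫ j.hom)
    rw [Linear.smul_comp, Linear.comp_smul]

section Iso

variable {X X' : Scheme.{u}}

/-- Pull-back along an isomorphism is an equivalence. -/
noncomputable def pullEquiv (ε : X' ⟶ X) [IsIso ε] : X.Modules ≌ X'.Modules :=
  CategoryTheory.Equivalence.mk (Scheme.Modules.pullback ε) (Scheme.Modules.pullback (inv ε))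
    ((Scheme.Modules.pullbackId X).symm ≪≫ Scheme.Modules.pullbackCongr (IsIso.inv_hom_id ε).symm ≪≫
      (Scheme.Modules.pullbackComp (inv ε) ε).symm)
    (Scheme.Modules.pullbackComp ε (inv ε) ≪≫ Scheme.Modules.pullbackCongr (IsIso.hom_inv_id ε) ≪≫
      Scheme.Modules.pullbackId X')

theorem bijective_pull (ε : X' ⟶ X) [IsIso ε] (A F : X.Modules) :
    Function.Bijective fun φ : A ⟶ F => (Scheme.Modules.pullback ε).map φ :=
  (pullEquiv ε).fullyFaithfulFunctor.homEquiv.bijective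

end Iso

/-- Change of the scheme by an isomorphism. -/
theorem SB.pull_iff (p : Y ⟶ S) {Y' : Scheme.{u}} (ε : Y' ⟶ Y) [IsIso ε] {n : ℕ} {A F : Y.Modules}
    {e : Fin n → (A ⟶ F)} : SB p e ↔ SB (ε ≫ p) (fun l => (Scheme.Modules.pullback ε).map (e l)) := by
  refine sb_iff_of_bij p (ε ≫ p) id Function.bijective_id
    { toFun := fun φ => (Scheme.Modules.pullback ε).map φ, map_zero' := by simp,
      map_add' := fun x y => by simp } (bijective_pull ε A F) ?_ (fun _ => rfl)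
  intro c φ
  change (Scheme.Modules.pullback ε).map (p.appTop c • φ) = (ε ≫ p).appTop c • (Scheme.Modules.pullback ε).map φ
  rw [pull_smul, Scheme.Hom.comp_appTop]
  rfl

/-- Composite pull-backs. -/
theorem SB.comp_iff {Y' Y'' : Scheme.{u}} (f : Y'' ⟶ Y') (g : Y' ⟶ Y) (q : Y'' ⟶ S) {n : ℕ} {A F : Y.Modules}
    {e : Fin n → (A ⟶ F)} : SB q (fun l => (Scheme.Modules.pullback f).map ((Scheme.Modules.pullback g).map (e l))) ↔
      SB q (fun l => (Scheme.Modules.pullback (f ≫ g)).map (e l)) := by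
  rw [SB.iso_iff q ((Scheme.Modules.pullbackComp f g).symm.app A) ((Scheme.Modules.pullbackComp f g).app F)]
  have h : ∀ l, ((Scheme.Modules.pullbackComp f g).symm.app A).hom ≫
      (Scheme.Modules.pullback f).map ((Scheme.Modules.pullback g).map (e l)) ≫
        ((Scheme.Modules.pullbackComp f g).app F).hom = (Scheme.Modules.pullback (f ≫ g)).map (e l) := by
    intro l
    have h1 := (Scheme.Modules.pullbackComp f g).hom.naturality (e l)
    change (Scheme.Modules.pullbackComp f g).inv.app A ≫ _ ≫ (Scheme.Modules.pullbackComp f g).hom.app F = _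
    change (Scheme.Modules.pullback f).map ((Scheme.Modules.pullback g).map (e l)) ≫ _ = _ at h1
    rw [h1, ← Category.assoc, ← NatTrans.comp_app, Iso.inv_hom_id, NatTrans.id_app, Category.id_comp]
  simp only [h]

theorem SB.congr_iff {Y' : Scheme.{u}} {f g : Y' ⟶ Y} (h : f = g) (q : Y' ⟶ S) {n : ℕ} {A F : Y.Modules}
    {e : Fin n → (A ⟶ F)} : SB q (fun l => (Scheme.Modules.pullback f).map (e l)) ↔
      SB q (fun l => (Scheme.Modules.pullback g).map (e l)) := by
  subst h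
  rfl

/-- The property does not depend on the choice of the cartesian square. -/
theorem SB.square_iff {p : Y ⟶ S} {S' Y' Y'' : Scheme.{u}} {f : Y' ⟶ Y} {q : Y' ⟶ S'} {g : S' ⟶ S} {f' : Y'' ⟶ Y}
    {q' : Y'' ⟶ S'} (H : IsPullback f q p g) (H' : IsPullback f' q' p g) {n : ℕ} {A F : Y.Modules}
    {e : Fin n → (A ⟶ F)} : SB q (fun l => (Scheme.Modules.pullback f).map (e l)) ↔
      SB q' (fun l => (Scheme.Modules.pullback f').map (e l)) := by
  let ε : Y'' ≅ Y' := H'.isoIsPullback _ _ H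
  have h1 : ε.hom ≫ f = f' := H'.isoIsPullback_hom_fst _ _ H
  have h2 : ε.hom ≫ q = q' := H'.isoIsPullback_hom_snd _ _ H
  rw [SB.pull_iff q ε.hom, SB.comp_iff, SB.congr_iff h1, h2]

/-- `e` is a basis after every base change with values in `U`. -/
def SBOn (p : Y ⟶ S) (U : Set S) {n : ℕ} {A F : Y.Modules} (e : Fin n → (A ⟶ F)) : Prop :=
  ∀ ⦃Y' S' : Scheme.{u}⦄ (f : Y' ⟶ Y) (q : Y' ⟶ S') (g : S' ⟶ S), IsPullback f q p g → (∀ s, g s ∈ U) →
    SB q (fun l => (Scheme.Modules.pullback f).map (e l))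

theorem SBOn.pull {p : Y ⟶ S} {U : Set S} {n : ℕ} {A F : Y.Modules} {e : Fin n → (A ⟶ F)} (h : SBOn p U e)
    {Y' S' : Scheme.{u}} {f : Y' ⟶ Y} {q : Y' ⟶ S'} {g : S' ⟶ S} (H : IsPullback f q p g) :
    SBOn q (g ⁻¹' U) (fun l => (Scheme.Modules.pullback f).map (e l)) := by
  intro Y'' S'' f' q' g' H' hU
  rw [SB.comp_iff]
  refine h _ _ _ (H'.paste_horiz H) fun s => ?_
  rw [Scheme.Hom.comp_apply]
  exact hU s

theorem SBOn.self {p : Y ⟶ S} {n : ℕ} {A F : Y.Modules} {e : Fin n → (A ⟶ F)} (h : SBOn p Set.univ e) : SB p e := by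
  have h1 := h (𝟙 Y) p (𝟙 S) (IsPullback.of_horiz_isIso ⟨by simp⟩) (fun _ => trivial)
  rw [SB.pull_iff p (𝟙 Y)]
  simpa using h1

end K311.Bas
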