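import Groth.Agent.BunMod.K311.SB
import Groth.Agent.Ega2.Tens
import Groth.Agent.Dcoh.MonInst

/-!
# Homomorphisms out of a dualizable module as sections

`A` with dual `A'`: `Hom(A, F) = Γ(F ⊗ A')`, compatibly with pull-back and with multiplication by functions.
-/

set_option autoImplicit false
universe u

open CategoryTheory CategoryTheory.Limits AlgebraicGeometry Opposite MonoidalCategory

namespace K311.Sec

open scoped Groth.Agent.Dcoh.MonCat
open Groth.Agent Groth.Agent.Fdesc Groth.Agent.Fdesc.LocGen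
open Groth.Agent.LoccohB.HHmap (smulHom smulHom_comp smulHom_app)
open Groth.Agent.LoccohB.SectLin303 K311.KE K311.Bas

attribute [local instance] Groth.Agent.Dcoh.MonPull.monPull

variable {Y Y' : Scheme.{u}}

theorem whiskerRight_app_tmul {M N : Y.Modules} (F : Y.Modules) (φ : M ⟶ N) {U : Y.Opens} (m : Γ(M, U))
    (n : Γ(F, U)) : (φ ▷ F).app U (Ega2.Tens.tmul (M := M) (N := F) m n) =
      Ega2.Tens.tmul (M := N) (N := F) (φ.app U m) n := by
  have h := (PresheafOfModules.sheafificationAdjunction (𝟙 Y.ringCatSheaf.obj)).unit.naturality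
    (X := CohB1.tensorPre M F) (Y := CohB1.tensorPre N F)
    ((tensorRight (CohB1.toPMod F)).map (DCoh.toP.map φ))
  exact (congr(($h).app (op U) (Ega2.Tens.pt m n))).symm

theorem smulHom_whiskerRight (M F : Y.Modules) (c : Γ(Y, ⊤)) : smulHom M c ▷ F = smulHom (M ⊗ F) c := by
  refine Ega2.Tens.hom_ext (M := M) (N := F) _ _ fun U m n => ?_
  refine (whiskerRight_app_tmul F (smulHom M c) m n).trans ?_
  exact Ega2.Tens.smul_tmul _ m n

theorem smul_whiskerRight {M N : Y.Modules} (c : Γ(Y, ⊤)) (φ : M ⟶ N) (F : Y.Modules) :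
    (c • φ) ▷ F = c • (φ ▷ F) := by
  change (smulHom M c ≫ φ) ▷ F = smulHom (M ⊗ F) c ≫ (φ ▷ F)
  rw [comp_whiskerRight, smulHom_whiskerRight]

theorem smul_app_top {M N : Y.Modules} (c : Γ(Y, ⊤)) (φ : M ⟶ N) (s : Γ(M, ⊤)) :
    (c • φ).app ⊤ s = c • φ.app ⊤ s := by
  change (smulHom M c ≫ φ).app ⊤ s = _
  rw [smulHom_comp]
  change ores (le_refl ⊤) c • φ.app ⊤ s = _
  rw [ores_refl]

/-- The section of `F ⊗ A'` given by `w : A ⟶ F`. -/
noncomputable def sec (A A' : Y.Modules) [ExactPairing A A'] {F : Y.Modules} (w : A ⟶ F) :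
    Γ(CohB1.tensorMod F A', ⊤) := (K45.MonLift.cm A A' w).app ⊤ (one ⊤)

theorem bijective_sec (A A' : Y.Modules) [ExactPairing A A'] (F : Y.Modules) :
    Function.Bijective (sec A A' (F := F)) := by
  constructor
  · intro w w' h
    exact K45.MonLift.cm_injective A A' (hom_ext_sec h)
  · intro s
    obtain ⟨w, hw⟩ := K45.MonLift.cm_surjective A A' (homOf s)
    refine ⟨w, ?_⟩
    rw [sec, hw]
    have := sec_homOf s ⊤
    rw [res_refl] at this
    exact this

section Pull

variable (f : Y' ⟶ Y) (A A' : Y.Modules) [ExactPairing A A'] (F : Y.Modules)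

/-- The sections of the pull-back given by a homomorphism of the pull-backs. -/
noncomputable abbrev psec (w : (Scheme.Modules.pullback f).obj A ⟶ (Scheme.Modules.pullback f).obj F) :
    Γ((Scheme.Modules.pullback f).obj (CohB1.tensorMod F A'), ⊤) :=
  K45.HomLift.secOf (F := A) (F' := A') f w

theorem psec_smul (c : Γ(Y', ⊤)) (w : (Scheme.Modules.pullback f).obj A ⟶ (Scheme.Modules.pullback f).obj F) :
    psec f A A' F (c • w) = c • psec f A A' F w := by
  have h : K45.MonLift.pm (Scheme.Modules.pullback f) A A' (c • w) =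
      c • K45.MonLift.pm (Scheme.Modules.pullback f) A A' w := by
    simp only [K45.MonLift.pm, smul_whiskerRight, Linear.smul_comp, Linear.comp_smul]
  rw [psec, K45.HomLift.secOf, h, smul_app_top]
  rfl

theorem psec_add (w w' : (Scheme.Modules.pullback f).obj A ⟶ (Scheme.Modules.pullback f).obj F) :
    psec f A A' F (w + w') = psec f A A' F w + psec f A A' F w' := by
  have h : K45.MonLift.pm (Scheme.Modules.pullback f) A A' (w + w') =
      K45.MonLift.pm (Scheme.Modules.pullback f) A A' w + K45.MonLift.pm (Scheme.Modules.pullback f) A A' w' := by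
    simp only [K45.MonLift.pm, MonoidalPreadditive.add_whiskerRight, Preadditive.add_comp, Preadditive.comp_add]
  rw [psec, K45.HomLift.secOf, h]
  rfl

theorem bijective_psec : Function.Bijective (psec f A A' F) := by
  let P := Scheme.Modules.pullback f
  let := Groth.Agent.Dcoh.MonDual.mapExactPairing P A A'
  constructor
  · intro w w' h
    have h1 := K45.HomLift.pull_hom_ext f h
    apply K45.MonLift.cm_injective (P.obj A) (P.obj A')
    rw [← K45.MonLift.pm_eq, ← K45.MonLift.pm_eq, h1]
  · intro s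
    let φ : P.obj (Coh.structureModule Y) ⟶ P.obj (CohB1.tensorMod F A') :=
      ((Scheme.Modules.pullbackPushforwardAdjunction f).homEquiv _ _).symm
        (homOf (M := (Scheme.Modules.pushforward f).obj (P.obj (CohB1.tensorMod F A'))) s)
    have hφ : φ.app ⊤ (pullTop f (one ⊤)) = s := by
      have h1 := homEquiv_app_top f φ (one ⊤)
      rw [← h1, Equiv.apply_symm_apply]
      have := sec_homOf (M := (Scheme.Modules.pushforward f).obj (P.obj (CohB1.tensorMod F A'))) s ⊤
      rw [res_refl] at this
      exact this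
    obtain ⟨w, hw⟩ := K45.MonLift.cm_surjective (P.obj A) (P.obj A') (N := P.obj F)
      (Functor.LaxMonoidal.ε P ≫ φ ≫ Functor.OplaxMonoidal.δ P F A')
    refine ⟨w, ?_⟩
    rw [← K45.MonLift.pm_eq] at hw
    have h2 : K45.MonLift.pm P A A' w = φ := by
      have h3 := (cancel_epi _).1 hw
      exact (cancel_mono _).1 h3
    change (K45.MonLift.pm P A A' w).app ⊤ (pullTop f (one ⊤)) = s
    rw [h2]
    exact hφ

variable {F} in
/-- Sections and pull-back. -/
theorem psec_map (w : A ⟶ F) : psec f A A' F ((Scheme.Modules.pullback f).map w) = pullTop f (sec A A' w) := by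
  rw [psec, K45.HomLift.secOf, K45.MonLift.pm_map]
  exact pullback_map_pullSec f (K45.MonLift.cm A A' w) (one ⊤)

end Pull

end K311.Sec
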