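import Groth.Agent.BunMod.K311.Sec
import Groth.Agent.BunMod.K311.PushBas
import Groth.Agent.Dcoh.MonPull2_292
import Groth.Agent.Dcoh.DualFLF
import Groth.Agent.Desc.FinLocFreeSections
import Groth.Agent.Sga67.LocBasisOps

/-!
# Bases of `Hom(A, F)` in families with vanishing `H¹`

`VanFam p A F`: `A`, `F` finite locally free on `Y`, `H¹(F ⊗ A^∨) = 0` on the geometric fibres of `p : Y ⟶ S`.

* `VanFam.exists_near`: a tuple `A ⟶ F` which is a basis at a geometric point is a universal basis near this point;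
* `VanFam.sbOn_univ`: a tuple which is a basis at all geometric points is a universal basis;
* `VanFam.exists_local`: near a geometric point there is a universal basis.
-/

set_option autoImplicit false
universe u

open CategoryTheory CategoryTheory.Limits AlgebraicGeometry Opposite MonoidalCategory

namespace K311.Van

open scoped Groth.Agent.Dcoh.MonCat
open Groth.Agent Groth.Agent.Fdesc Groth.Agent.Fdesc.LocGen Groth.Agent.Ega2.BasSec
open Groth.Agent.LoccohB.HHmap (smulHom smulHom_comp smulHom_app)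
open Groth.Agent.LoccohB.SectLin303 K311.KE K311.Bas K311.Sec K311.PushFree
open Groth.Agent.CohqA.PullbackAffine Groth.Agent.CohqA.PullbackSections Groth.Agent.CohqA.AffineBaseChange

attribute [local instance] Groth.Agent.Dcoh.MonPull.monPull

variable {Y S Y' S' : Scheme.{u}}

/-- `sec` of a homomorphism of pull-backs. -/
theorem sec_pull (f : Y' ⟶ Y) (A A' : Y.Modules) [ExactPairing A A'] (F : Y.Modules)
    (w : (Scheme.Modules.pullback f).obj A ⟶ (Scheme.Modules.pullback f).obj F) :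
    letI := Groth.Agent.Dcoh.MonDual.mapExactPairing (Scheme.Modules.pullback f) A A'
    sec ((Scheme.Modules.pullback f).obj A) ((Scheme.Modules.pullback f).obj A') w =
      (Functor.OplaxMonoidal.δ (Scheme.Modules.pullback f) F A').app ⊤ (psec f A A' F w) := by
  let := Groth.Agent.Dcoh.MonDual.mapExactPairing (Scheme.Modules.pullback f) A A'
  have h := K45.MonLift.pm_eq (Scheme.Modules.pullback f) A A' w
  unfold Sec.sec
  rw [← h]
  have h2 : (Functor.LaxMonoidal.ε (Scheme.Modules.pullback f)).app ⊤ (one ⊤) = pullTop f (one ⊤) := by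
    have h3 := Groth.Agent.Dcoh.MonPull.ε_pb f (V := ⊤) 1
    rw [map_one] at h3
    exact h3
  change (Functor.OplaxMonoidal.δ (Scheme.Modules.pullback f) F A').app ⊤
    ((K45.MonLift.pm (Scheme.Modules.pullback f) A A' w).app ⊤
      ((Functor.LaxMonoidal.ε (Scheme.Modules.pullback f)).app ⊤ (one ⊤))) = _
  rw [h2]
  rfl

/-- `SB` in terms of sections. -/
theorem sb_iff_comb (f : Y' ⟶ Y) (q : Y' ⟶ S') (A A' : Y.Modules) [ExactPairing A A'] {F : Y.Modules} {n : ℕ}
    (w : Fin n → ((Scheme.Modules.pullback f).obj A ⟶ (Scheme.Modules.pullback f).obj F)) :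
    SB q w ↔ Function.Bijective (comb (M := (Scheme.Modules.pushforward q).obj
      ((Scheme.Modules.pullback f).obj (CohB1.tensorMod F A'))) (V := ⊤) (fun i => psec f A A' F (w i))) := by
  let Φ : ((Scheme.Modules.pullback f).obj A ⟶ (Scheme.Modules.pullback f).obj F) →+
      Γ((Scheme.Modules.pullback f).obj (CohB1.tensorMod F A'), ⊤) :=
    AddMonoidHom.mk' (psec f A A' F) (psec_add f A A' F)
  have h1 : comb (M := (Scheme.Modules.pushforward q).obj
      ((Scheme.Modules.pullback f).obj (CohB1.tensorMod F A'))) (V := ⊤) (fun i => psec f A A' F (w i)) =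
      Φ ∘ fun c : Fin n → Γ(S', ⊤) => ∑ i, q.appTop (c i) • w i := by
    funext c
    refine Eq.trans ?_ (_root_.map_sum Φ _ _).symm
    refine Finset.sum_congr rfl fun i _ => ?_
    exact (psec_smul f A A' F (q.appTop (c i)) (w i)).symm
  rw [h1]
  exact (Function.Bijective.of_comp_iff' (bijective_psec f A A' F) _).symm

variable {p : Y ⟶ S}

theorem secMap_top_eq {f : Y' ⟶ Y} {q : Y' ⟶ S'} {g : S' ⟶ S} (H : IsPullback f q p g) {G : Y.Modules}
    (s : Γ(G, ⊤)) : secMap g (pushSquare p g f q H.w (pbUnit f G)) ⊤ ⊤ le_top s = pullTop f s := by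
  refine (secMap_pushSquare p g f q H.w (pbUnit f G) ⊤ ⊤ le_top le_top s).trans ?_
  exact LocGen.res_refl _ (pullTop f s)

section Main

variable [IsProper p] [LocallyOfFinitePresentation p] (A A' : Y.Modules) [ExactPairing A A'] {F : Y.Modules}
  (hfp : CohB1.IsFP (CohB1.tensorMod F A')) (hfl : FlatMod.IsFlatOver p (CohB1.tensorMod F A'))
  (h1 : GeomH1 p (CohB1.tensorMod F A'))

include hfp hfl h1 in
theorem sbOn_of_isBas {n : ℕ} {e : Fin n → (A ⟶ F)} {U : S.Opens}
    (hb : IsBas (M := (Scheme.Modules.pushforward p).obj (CohB1.tensorMod F A'))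
      (fun i => LocGen.res _ (le_top : U ≤ ⊤) (sec A A' (e i)))) : SBOn p (U : Set S) e := by
  intro Y' S' f q g H hU
  rw [sb_iff_comb f q A A']
  have e' : (⊤ : S'.Opens) ≤ g ⁻¹ᵁ U := fun s _ => hU s
  have h2 := (isBas_pull hfp hfl h1 H e' hb).bijective
  have h3 : (fun i => psec f A A' F ((Scheme.Modules.pullback f).map (e i))) = fun i =>
      secMap g (pushSquare p g f q H.w (pbUnit f (CohB1.tensorMod F A'))) U ⊤ e'
        (LocGen.res ((Scheme.Modules.pushforward p).obj (CohB1.tensorMod F A')) (le_top : U ≤ ⊤)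
          (sec A A' (e i))) := by
    funext i
    rw [psec_map, ← secMap_top_eq H, ← res_secMap g _ le_top e' le_top le_rfl, LocGen.res_refl]
  rw [h3]
  exact h2

include hfp hfl h1 in
theorem exists_near' {n : ℕ} {e : Fin n → (A ⟶ F)} {Ω : Type u} [Field Ω] (t : Spec (CommRingCat.of Ω) ⟶ S)
    {f : Y' ⟶ Y} {q : Y' ⟶ Spec (CommRingCat.of Ω)} (H : IsPullback f q p t)
    (hb : SB q (fun i => (Scheme.Modules.pullback f).map (e i))) (x : Spec (CommRingCat.of Ω)) :
    ∃ U : S.Opens, t x ∈ U ∧ IsBas (M := (Scheme.Modules.pushforward p).obj (CohB1.tensorMod F A'))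
      (fun i => LocGen.res _ (le_top : U ≤ ⊤) (sec A A' (e i))) := by
  rw [sb_iff_comb f q A A'] at hb
  refine exists_near hfp hfl h1 t H ?_ x
  have h3 : (fun i => psec f A A' F ((Scheme.Modules.pullback f).map (e i))) = fun i =>
      secMap t (pushSquare p t f q H.w (pbUnit f (CohB1.tensorMod F A'))) ⊤ ⊤ le_top (sec A A' (e i)) := by
    funext i
    rw [psec_map, ← secMap_top_eq H]
  rw [h3] at hb
  exact hb

include hfp hfl h1 in
theorem isBas_of_geom' {n : ℕ} {e : Fin n → (A ⟶ F)}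
    (h : ∀ (Ω : Type u) [Field Ω] [IsAlgClosed Ω] (t : Spec (CommRingCat.of Ω) ⟶ S),
      ∃ (Y' : Scheme.{u}) (f : Y' ⟶ Y) (q : Y' ⟶ Spec (CommRingCat.of Ω)) (_ : IsPullback f q p t),
      SB q (fun i => (Scheme.Modules.pullback f).map (e i))) :
    IsBas (M := (Scheme.Modules.pushforward p).obj (CohB1.tensorMod F A')) (U := ⊤)
      (fun i => sec A A' (e i)) := by
  refine isBas_of_geom hfp hfl h1 fun Ω _ _ t => ?_
  obtain ⟨Y', f, q, H, hb⟩ := h Ω t
  rw [sb_iff_comb f q A A'] at hb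
  refine ⟨Y', f, q, H, ?_⟩
  have h3 : (fun i => psec f A A' F ((Scheme.Modules.pullback f).map (e i))) = fun i =>
      secMap t (pushSquare p t f q H.w (pbUnit f (CohB1.tensorMod F A'))) ⊤ ⊤ le_top (sec A A' (e i)) := by
    funext i
    rw [psec_map, ← secMap_top_eq H]
  rw [h3] at hb
  exact hb

end Main

/-- `A`, `F` finite locally free and `H¹(F ⊗ A^∨) = 0` on the geometric fibres. -/
structure VanFam (p : Y ⟶ S) (A F : Y.Modules) : Prop where
  flfA : FlatMod.IsFinLocFree A
  flfF : FlatMod.IsFinLocFree F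
  van : ∃ (A' : Y.Modules) (_ : ExactPairing A A'), GeomH1 p (CohB1.tensorMod F A')

theorem isFlatOver_tensor [Flat p] {F A' : Y.Modules} (h1 : FlatMod.IsFinLocFree F) (h2 : FlatMod.IsFinLocFree A') :
    FlatMod.IsFlatOver p (CohB1.tensorMod F A') :=
  K45.HomLift.isFlatOver_of_flf p (Sga67.LocBasis.isFinLocFree_tensorMod h1 h2)

theorem isFP_tensor {F A' : Y.Modules} (h1 : FlatMod.IsFinLocFree F) (h2 : FlatMod.IsFinLocFree A') :
    CohB1.IsFP (CohB1.tensorMod F A') :=
  Desc.FinLocFreeSections.isFP_of_isFinLocFree (Sga67.LocBasis.isFinLocFree_tensorMod h1 h2)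

/-- Base change. -/
theorem VanFam.baseChange {A F : Y.Modules} (h : VanFam p A F) {f : Y' ⟶ Y} {q : Y' ⟶ S'} {g : S' ⟶ S}
    (H : IsPullback f q p g) : VanFam q ((Scheme.Modules.pullback f).obj A) ((Scheme.Modules.pullback f).obj F) where
  flfA := PerfB.FlatPull.isFinLocFree_pullback f h.flfA
  flfF := PerfB.FlatPull.isFinLocFree_pullback f h.flfF
  van := by
    obtain ⟨A', i, h1⟩ := h.van
    exact ⟨_, Groth.Agent.Dcoh.MonDual.mapExactPairing (Scheme.Modules.pullback f) A A',
      (h1.baseChange H).of_iso (Functor.Monoidal.μIso (Scheme.Modules.pullback f) F A').symm⟩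

variable [IsProper p] [LocallyOfFinitePresentation p] [Flat p] {A F : Y.Modules} (h : VanFam p A F)

include h

/-- A tuple which is a basis at a geometric point is a universal basis near this point. -/
theorem VanFam.exists_near {n : ℕ} {e : Fin n → (A ⟶ F)} {Ω : Type u} [Field Ω] (t : Spec (CommRingCat.of Ω) ⟶ S)
    {f : Y' ⟶ Y} {q : Y' ⟶ Spec (CommRingCat.of Ω)} (H : IsPullback f q p t)
    (hb : SB q (fun i => (Scheme.Modules.pullback f).map (e i))) (x : Spec (CommRingCat.of Ω)) :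
    ∃ U : S.Opens, t x ∈ U ∧ SBOn p (U : Set S) e := by
  obtain ⟨A', i, h1⟩ := h.van
  have h2 := Groth.Agent.Dcoh.DualFLF.isFinLocFree_dual h.flfA A'
  obtain ⟨U, hx, hU⟩ := exists_near' A A' (isFP_tensor h.flfF h2) (isFlatOver_tensor h.flfF h2) h1 t H hb x
  exact ⟨U, hx, sbOn_of_isBas A A' (isFP_tensor h.flfF h2) (isFlatOver_tensor h.flfF h2) h1 hU⟩

/-- A tuple which is a basis at all geometric points is a universal basis. -/
theorem VanFam.sbOn_univ {n : ℕ} {e : Fin n → (A ⟶ F)}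
    (hb : ∀ (Ω : Type u) [Field Ω] [IsAlgClosed Ω] (t : Spec (CommRingCat.of Ω) ⟶ S),
      ∃ (Y' : Scheme.{u}) (f : Y' ⟶ Y) (q : Y' ⟶ Spec (CommRingCat.of Ω)) (_ : IsPullback f q p t),
      SB q (fun i => (Scheme.Modules.pullback f).map (e i))) : SBOn p Set.univ e := by
  obtain ⟨A', i, h1⟩ := h.van
  have h2 := Groth.Agent.Dcoh.DualFLF.isFinLocFree_dual h.flfA A'
  have h3 := isBas_of_geom' A A' (isFP_tensor h.flfF h2) (isFlatOver_tensor h.flfF h2) h1 hb
  intro Y' S' f q g H _
  exact sbOn_of_isBas A A' (isFP_tensor h.flfF h2) (isFlatOver_tensor h.flfF h2) h1 (U := ⊤)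
    (h3.res (le_top : (⊤ : S.Opens) ≤ ⊤)) f q g H (fun _ => trivial)

/-- Near a geometric point there is a universal basis. -/
theorem VanFam.exists_local {n : ℕ} {Ω : Type u} [Field Ω] (t : Spec (CommRingCat.of Ω) ⟶ S)
    {f : Y' ⟶ Y} {q : Y' ⟶ Spec (CommRingCat.of Ω)} (H : IsPullback f q p t)
    {w : Fin n → ((Scheme.Modules.pullback f).obj A ⟶ (Scheme.Modules.pullback f).obj F)}
    (hb : SB q w) (x : Spec (CommRingCat.of Ω)) :
    ∃ U : S.Opens, IsAffineOpen U ∧ t x ∈ U ∧ ∀ {Y₁ S₁ : Scheme.{u}} (j : Y₁ ⟶ Y) (p₁ : Y₁ ⟶ S₁) (g : S₁ ⟶ S)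
      (_ : IsPullback j p₁ p g) (_ : ∀ s, g s ∈ U),
      ∃ e : Fin n → ((Scheme.Modules.pullback j).obj A ⟶ (Scheme.Modules.pullback j).obj F),
        SBOn p₁ Set.univ e := by
  obtain ⟨A', i, h1⟩ := h.van
  have h2 := Groth.Agent.Dcoh.DualFLF.isFinLocFree_dual h.flfA A'
  rw [sb_iff_comb f q A A'] at hb
  obtain ⟨U, s, hU, hxU, hs⟩ := PushFree.exists_local (isFP_tensor h.flfF h2) (isFlatOver_tensor h.flfF h2) h1 t H
    hb x
  refine ⟨U, hU, hxU, fun {Y₁ S₁} j p₁ g H₁ hgU => ?_⟩
  have e' : (⊤ : S₁.Opens) ≤ g ⁻¹ᵁ U := fun s _ => hgU s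
  have h3 := isBas_pull (isFP_tensor h.flfF h2) (isFlatOver_tensor h.flfF h2) h1 H₁ e' hs
  choose e he using fun i => (bijective_psec j A A' F).2
    (secMap g (pushSquare p g j p₁ H₁.w (pbUnit j (CohB1.tensorMod F A'))) U ⊤ e' (s i))
  refine ⟨e, ?_⟩
  let P := Scheme.Modules.pullback j
  let := Groth.Agent.Dcoh.MonDual.mapExactPairing P A A'
  have : IsProper p₁ := MorphismProperty.of_isPullback H₁ inferInstance
  have : LocallyOfFinitePresentation p₁ := MorphismProperty.of_isPullback H₁ inferInstance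
  have : Flat p₁ := MorphismProperty.of_isPullback H₁ inferInstance
  let ι : P.obj (CohB1.tensorMod F A') ≅ CohB1.tensorMod (P.obj F) (P.obj A') :=
    (Functor.Monoidal.μIso P F A').symm
  have h4 : IsBas (M := (Scheme.Modules.pushforward p₁).obj (CohB1.tensorMod (P.obj F) (P.obj A'))) (U := ⊤)
      (fun i => sec (P.obj A) (P.obj A') (e i)) := by
    have h5 := h3.app ((Scheme.Modules.pushforward p₁).map ι.hom)
    have h6 : (fun i => sec (P.obj A) (P.obj A') (e i)) = fun i =>
        ((Scheme.Modules.pushforward p₁).map ι.hom).app ⊤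
          (secMap g (pushSquare p g j p₁ H₁.w (pbUnit j (CohB1.tensorMod F A'))) U ⊤ e' (s i)) := by
      funext i
      rw [sec_pull, he]
      rfl
    rw [h6]
    exact h5
  have h7 := PerfB.FlatPull.isFinLocFree_pullback j h.flfF
  have h8 := PerfB.FlatPull.isFinLocFree_pullback j h2
  intro Y' S' f' q' g' H' _
  exact sbOn_of_isBas (P.obj A) (P.obj A') (isFP_tensor h7 h8) (isFlatOver_tensor h7 h8)
    ((h1.baseChange H₁).of_iso ι) (U := ⊤) (h4.res (le_top : (⊤ : S₁.Opens) ≤ ⊤)) f' q' g' H' (fun _ => trivial)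

end K311.Van
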